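import Cfsg.Agent.WR.Split2
import Cfsg.Agent.WR.Util
import Cfsg.Agent.H70.Conj

/-! Project WR: the product `T × T` interchanged by `t`. -/

set_option autoImplicit false
set_option maxRecDepth 100000

namespace Cfsg.Agent.WR

open Subgroup Cfsg.Agent.H78 Cfsg.Agent.H14
open Cfsg.Agent.H42 (SylIn cj mem_cj conj_mem_cj)
open scoped commutatorElement

variable {G : Type*} [Group G] [Finite G] {c : Cf G} {Es Fs : Subgroup G} {s : T → G}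

namespace PD

omit [Finite G] in
theorem tsl {N A B M M' : Subgroup G} (hA : N ≤ normalizer (A : Set G)) (hM : M ≤ N) (hM' : M' ≤ N)
    (h1 : ∀ n ∈ N, ∀ m ∈ M, n * m * n⁻¹ ∈ M) (h2 : ∀ n ∈ N, ∀ m ∈ M', n * m * n⁻¹ ∈ M')
    (hB : ∀ m ∈ M, ∀ b ∈ B, Commute m b)
    (h : ∀ x ∈ M, x ∈ M' → ∃ a ∈ A, ∃ b ∈ B, ∃ o, (∀ n ∈ N, Commute o n) ∧ x = a * b * o) :
    ⁅⁅M, M⁆, M'⁆ ≤ A := by
  have k1 : ⁅M, M'⁆ ≤ M ⊓ M' := commutator_le.2 fun x hx y hy => mem_inf.2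
    ⟨by simpa only [commutatorElement_def, mul_assoc] using mul_mem hx (h1 y (hM' hy) _ (inv_mem hx)),
      mul_mem (h2 x (hM hx) y hy) (inv_mem hy)⟩
  have k2 : ⁅M ⊓ M', M⁆ ≤ A := commutator_le.2 fun x hx m hm => by
    obtain ⟨a, ha, b, hb, o, ho, rfl⟩ := h x hx.1 hx.2
    have e : ⁅a * b * o, m⁆ = a * (b * (o * m * o⁻¹) * b⁻¹ * a⁻¹ * m⁻¹) := by
      rw [commutatorElement_def]; group
    rw [e, (ho m (hM hm)).eq, mul_inv_cancel_right, ← (hB m hm b hb).eq, mul_inv_cancel_right]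
    exact mul_mem ha (H42.conj_mem_of_mem_normalizer (hA (hM hm)) (inv_mem ha))
  exact H70.three_subgroups (hM.trans hA) (hM.trans hA) (hM'.trans hA)
    ((commutator_mono k1 le_rfl).trans k2)
    ((commutator_mono (commutator_comm M M' ▸ k1) le_rfl).trans k2)

omit [Finite G] in
theorem s_one (hs : Sp c Es s) : s 1 = 1 := by
  have := hs.mul 1 (one_mem _) 1 (one_mem _)
  rwa [mul_one, left_eq_mul] at this

omit [Finite G] in
theorem s_inj (hs : Sp c Es s) {e e' : T} (he : e ∈ E) (he' : e' ∈ E) (h : s e = s e') : e = e' :=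
  c.inj (mul_left_cancel ((hs.φ e he).symm.trans (h ▸ hs.φ e' he')))

/-- the first summand -/
def E1 (hs : Sp c Es s) : Subgroup G where
  carrier := {x | ∃ e ∈ E, x = s e}
  one_mem' := ⟨1, one_mem _, (s_one hs).symm⟩
  mul_mem' := by
    rintro _ _ ⟨a, ha, rfl⟩ ⟨b, hb, rfl⟩
    exact ⟨_, mul_mem ha hb, (hs.mul a ha b hb).symm⟩
  inv_mem' := by
    rintro _ ⟨a, ha, rfl⟩
    exact ⟨a, ha, inv_eq_of_mul_eq_one_right (by rw [← hs.mul a ha a ha, opEF.sq a ha, s_one hs])⟩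

omit [Finite G] in
theorem ti : c.t⁻¹ = c.t := inv_eq_of_mul_eq_one_right c.tt

omit [Finite G] in
theorem tt' (x : G) : c.t * (c.t * x * c.t⁻¹) * c.t⁻¹ = x := by
  rw [show c.t * (c.t * x * c.t⁻¹) * c.t⁻¹ = c.t * c.t * x * (c.t * c.t)⁻¹ by group, c.tt]; simp

omit [Finite G] in
theorem cj_back {K : Subgroup G} {x : G} (h : x ∈ cj c.t K) : c.t * x * c.t⁻¹ ∈ K := by
  have := mem_cj.1 h
  rwa [ti, ← ti (c := c), ti, ← ti (c := c), ti] at this ⊢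

/-- `n` acts on the first summand as `l` acts on `E` -/
def Rl (c : Cf G) (s : T → G) (n l : G) : Prop :=
  ∀ e ∈ E, ∀ e' ∈ E, l * c.ι e * l⁻¹ = c.ι e' → n * s e * n⁻¹ = s e'

omit [Finite G] in
theorem Rl.mul {n l n' l' : G} (h : Rl c s n l) (h' : Rl c s n' l') (hl : l' ∈ c.Λ) :
    Rl c s (n * n') (l * l') := fun e he e' he' k => by
  obtain ⟨a, ha, k1⟩ := c.nE hl e he
  rw [← h a ha e' he' (by rw [← k1, ← k]; group), ← h' e he a ha k1]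
  group

omit [Finite G] in
theorem Rl.inv {n l : G} (h : Rl c s n l) : Rl c s n⁻¹ l⁻¹ := fun e he e' he' k => by
  rw [← h e' he' e he (by rw [← k]; group)]
  group

theorem le_N1 : c.Λ ≤ N0 c Es Fs := le_sup_left.trans le_sup_left
theorem le_N2 : Es ≤ N0 c Es Fs := le_sup_right.trans le_sup_left
theorem le_N3 : Fs ≤ N0 c Es Fs := le_sup_right

omit [Finite G] in
theorem rl_ι (hs : Sp c Es s) {y : G} {f : T} (k : ∀ e ∈ E, y * s e * y⁻¹ = s (f * e * f⁻¹)) :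
    Rl c s y (c.ι f) := fun e he e' _ l => by
  rw [k e he, c.inj (show c.ι (f * e * f⁻¹) = c.ι e' by rw [← l, map_mul, map_mul, map_inv])]

variable (h : Sx c Es Fs) (hs : Sp c Es s)
include h hs

theorem actN {n : G} (hn : n ∈ N0 c Es Fs) : ∃ l ∈ c.Λ, Rl c s n l := by
  let K : Subgroup G :=
    { carrier := {n | ∃ l ∈ c.Λ, Rl c s n l}
      one_mem' := ⟨1, one_mem _, hs.eqv 1 (one_mem _)⟩
      mul_mem' := fun ⟨l, hl, a⟩ ⟨l', hl', b⟩ => ⟨_, mul_mem hl hl', a.mul b hl'⟩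
      inv_mem' := fun ⟨l, hl, a⟩ => ⟨_, inv_mem hl, a.inv⟩ }
  refine (sup_le (sup_le (fun l hl => ⟨l, hl, hs.eqv l hl⟩) fun a ha => ⟨c.ι 1, c.ι_mem 1,
    rl_ι hs fun e he => ?_⟩) fun y hy => ?_ : N0 c Es Fs ≤ K) hn
  · rw [(h.e.comm a ha _ (hs.mem e he)).eq]; simp
  · obtain ⟨f, -, k⟩ := h.act hs hy
    exact ⟨_, c.ι_mem f, rl_ι hs k⟩

theorem t_N {n : G} (hn : n ∈ N0 c Es Fs) : c.t * n * c.t⁻¹ ∈ N0 c Es Fs := by
  rw [ti]; exact h.t_norm hn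

theorem norm1 : N0 c Es Fs ≤ normalizer (E1 hs : Set G) := fun n hn =>
  H42.mem_normalizer_of_conj_mem (by
    rintro _ ⟨e, he, rfl⟩
    obtain ⟨l, hl, k⟩ := actN h hs hn
    obtain ⟨e', he', k'⟩ := c.nE hl e he
    exact ⟨e', he', k e he e' he' k'⟩)

theorem norm2 : N0 c Es Fs ≤ normalizer (cj c.t (E1 hs) : Set G) := fun n hn => by
  rw [← H42.cj_normalizer, ← tt' (c := c) n]
  exact conj_mem_cj (norm1 h hs (t_N h hs hn))

omit h in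
theorem E1_le : E1 hs ≤ Es := by
  rintro _ ⟨e, he, rfl⟩
  exact hs.mem e he

omit h in
theorem ts {e : T} (he : e ∈ E) : c.t * s e * c.t⁻¹ = c.ι e * s e := by rw [ti, tqt (hs.φ e he)]

theorem E2_le : cj c.t (E1 hs) ≤ Es := H42.cj_le_iff.2 (by
  rintro _ ⟨e, he, rfl⟩
  rw [ts hs he]
  exact mul_mem (h.e.DR e he) (hs.mem e he))

theorem dec {a : G} (ha : a ∈ Es) : ∃ x ∈ E1 hs, ∃ y ∈ cj c.t (E1 hs), a = x * y := by
  obtain ⟨e, he, k⟩ := h.e.φ a ha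
  obtain ⟨e', he', l⟩ := h.e.ker _ (mul_mem (inv_mem (hs.mem e he)) ha)
    (comm_of_φ ((hs.φ e he).trans k.symm))
  refine ⟨_, ⟨_, mul_mem he he', rfl⟩, _, conj_mem_cj ⟨e', he', rfl⟩, ?_⟩
  rw [ts hs he', hs.mul e he e' he', (h.e.comm _ (h.e.DR e' he') _ (hs.mem e' he')).eq, mul_assoc,
    ← mul_assoc (s e'), h.e.sq _ (hs.mem e' he'), one_mul, ← l, mul_inv_cancel_left]

theorem disj {x : G} (h1 : x ∈ E1 hs) (h2 : x ∈ cj c.t (E1 hs)) : x = 1 := by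
  obtain ⟨e, he, rfl⟩ := h1
  obtain ⟨e', he', k⟩ := cj_back h2
  rw [ts hs he] at k
  have k1 : s (e' * e) = c.ι e := by
    rw [hs.mul e' he' e he, ← k, mul_assoc, h.e.sq _ (hs.mem e he), mul_one]
  have k2 := hs.φ _ (mul_mem he' he)
  rw [k1, (c.ιt e).eq, mul_inv_cancel_right, left_eq_mul, ← map_one c.ι] at k2
  rw [c.inj k2, s_one hs, ← map_one c.ι] at k1
  rw [← c.inj k1, s_one hs]

omit h hs in
/-- the central elements of odd order -/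
def Zc (c : Cf G) (Es Fs : Subgroup G) : Subgroup G where
  carrier := {o | o ∈ N0 c Es Fs ∧ Odd (orderOf o) ∧ ∀ n ∈ N0 c Es Fs, Commute o n}
  one_mem' := ⟨one_mem _, by simp, fun n _ => .one_left n⟩
  mul_mem' := fun {a b} ha hb => ⟨mul_mem ha.1 hb.1,
    (ha.2.1.mul hb.2.1).of_dvd_nat (ha.2.2 b hb.1).orderOf_mul_dvd_mul_orderOf,
    fun n hn => (ha.2.2 n hn).mul_left (hb.2.2 n hn)⟩
  inv_mem' := fun {a} ha => ⟨inv_mem ha.1, by simpa using ha.2.1, fun n hn => (ha.2.2 n hn).inv_left⟩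

omit h in
/-- the elements acting trivially on the second summand -/
def M1 (Fs : Subgroup G) : Subgroup G := N0 c Es Fs ⊓ centralizer (cj c.t (E1 hs) : Set G)

theorem M2_eq : cj c.t (M1 hs Fs) = N0 c Es Fs ⊓ centralizer (E1 hs : Set G) := by
  have e : ∀ K : Subgroup G, cj c.t (cj c.t K) = K := fun K => by
    rw [H42.cj_cj, c.tt]; exact H42.cj_of_mem (one_mem _)
  rw [M1, H42.cj_inf, H42.cj_centralizer, e]
  congr 1
  exact le_antisymm (H42.cj_le_iff.2 fun x hx => t_N h hs hx) fun x hx =>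
    tt' (c := c) x ▸ conj_mem_cj (t_N h hs hx)

theorem M1_conj {n m : G} (hn : n ∈ N0 c Es Fs) (hm : m ∈ M1 hs Fs) : n * m * n⁻¹ ∈ M1 hs Fs :=
  mem_inf.2 ⟨mul_mem (mul_mem hn hm.1) (inv_mem hn), H42.conj_mem_of_mem_normalizer
    (H42.normalizer_le_normalizer_centralizer _ (norm2 h hs hn)) hm.2⟩

theorem M2_conj {n m : G} (hn : n ∈ N0 c Es Fs) (hm : m ∈ cj c.t (M1 hs Fs)) :
    n * m * n⁻¹ ∈ cj c.t (M1 hs Fs) := by
  rw [M2_eq h hs] at hm ⊢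
  exact mem_inf.2 ⟨mul_mem (mul_mem hn hm.1) (inv_mem hn), H42.conj_mem_of_mem_normalizer
    (H42.normalizer_le_normalizer_centralizer _ (norm1 h hs hn)) hm.2⟩

theorem dec0 {x : G} (h1 : x ∈ M1 hs Fs) (h2 : x ∈ cj c.t (M1 hs Fs)) :
    ∃ a ∈ E1 hs, ∃ b ∈ cj c.t (E1 hs), ∃ o ∈ Zc c Es Fs, x = a * b * o := by
  rw [M2_eq h hs] at h2
  obtain ⟨a, ha, o, o1, o2, o3, rfl⟩ := h.cen h1.1 fun a ha => by
    obtain ⟨u, hu, v, hv, rfl⟩ := dec h hs ha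
    exact Commute.mul_right (h2.2 u hu).symm (h1.2 v hv).symm
  obtain ⟨u, hu, v, hv, rfl⟩ := dec h hs ha
  exact ⟨u, hu, v, hv, o, ⟨o1, o2, o3⟩, rfl⟩

omit h in
theorem ncl' {M : Subgroup G} (hM : ∀ l ∈ c.Λ, ∀ m ∈ M, l * m * l⁻¹ ∈ M)
    (hF : ∀ f ∈ F, ∃ m ∈ M, Rl c s m (c.ι f)) {l : G} (hl : l ∈ c.Λ) : ∃ m ∈ M, Rl c s m l := by
  let K : Subgroup G :=
    { carrier := {l | l ∈ c.Λ ∧ ∃ m ∈ M, Rl c s m l}
      one_mem' := ⟨one_mem _, 1, one_mem _, hs.eqv 1 (one_mem _)⟩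
      mul_mem' := fun ⟨hl, m, hm, a⟩ ⟨hl', m', hm', b⟩ =>
        ⟨mul_mem hl hl', _, mul_mem hm hm', a.mul b hl'⟩
      inv_mem' := fun ⟨hl, m, hm, a⟩ => ⟨inv_mem hl, _, inv_mem hm, a.inv⟩ }
  obtain ⟨l', ⟨-, m, hm, a⟩, -, b⟩ := c.ncl (M := K) (fun g hg _ ⟨hl, m, hm, a⟩ =>
    ⟨mul_mem (mul_mem hg hl) (inv_mem hg), _, hM g hg m hm,
      (Rl.mul (hs.eqv g hg) a hl).mul (Rl.inv (hs.eqv g hg)) (inv_mem hg)⟩)
    (fun f hf => ⟨c.ι_mem f, hF f hf⟩) hl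
  exact ⟨m, hm, fun e he e' he' k => a e he e' he' ((b e he).trans k)⟩

theorem exM {l : G} (hl : l ∈ c.Λ) : ∃ m ∈ M1 hs Fs, Rl c s m l := by
  refine ncl' hs (fun l hl m hm => M1_conj h hs (le_N1 hl) hm) (fun f hf => ?_) hl
  obtain ⟨y, hy, k⟩ := h.f.onto f hf
  obtain ⟨g, hg, a⟩ := h.act hs hy
  have b := (rl_ι hs a).mul (Rl.inv (hs.eqv _ (c.ι_mem g))) (inv_mem (c.ι_mem g))
  have k' : y * (c.ι g)⁻¹ * c.t * (y * (c.ι g)⁻¹)⁻¹ = c.t * c.ι f := by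
    rw [mul_assoc y, (c.ιt g).inv_left.eq, ← k]; group
  have m : y * (c.ι g)⁻¹ ∈ cj c.t (M1 hs Fs) := by
    rw [M2_eq h hs]
    refine mem_inf.2 ⟨le_N3 (mul_mem hy (inv_mem (h.f.DR g hg))), ?_⟩
    rintro _ ⟨e, he, rfl⟩
    exact (mul_inv_eq_iff_eq_mul.1 (b e he e he (by simp))).symm
  refine ⟨_, cj_back m, ?_⟩
  rw [ti, tqt k']
  simpa using Rl.mul (hs.eqv _ (c.ι_mem f)) b (by simp)

theorem exN {l : G} (hl : l ∈ c.Λ) : ∃ m ∈ ⁅M1 hs Fs, M1 hs Fs⁆, Rl c s m l := by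
  refine ncl' hs (fun l hl m hm => ?_) (fun f hf => ?_) hl
  · have : (M1 hs Fs).map (MulAut.conj l).toMonoidHom ≤ M1 hs Fs :=
      H42.cj_le_iff.2 fun m hm => M1_conj h hs (le_N1 hl) hm
    have k := mem_map_of_mem (MulAut.conj l).toMonoidHom hm
    rw [map_commutator] at k
    exact commutator_mono this this k
  · obtain ⟨g, hg, rfl⟩ := (by decide +kernel : ∀ f : T, f ∈ F → ∃ g, g ∈ F ∧ f = g * a2 g⁻¹) f hf
    obtain ⟨m, hm, a⟩ := exM h hs (c.ι_mem g)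
    obtain ⟨m', hm', b⟩ := exM h hs c.h2_mem
    refine ⟨_, commutator_mem_commutator hm hm', ?_⟩
    have := ((a.mul b c.h2_mem).mul a.inv (inv_mem (c.ι_mem g))).mul b.inv (inv_mem c.h2_mem)
    rwa [map_mul, ← c.c2 _ (F_facts _ (inv_mem hg)).2.1, map_inv, ← mul_assoc, ← mul_assoc]

omit h in
/-- the first factor -/
def U1 (Fs : Subgroup G) : Subgroup G := ⁅M1 hs Fs, M1 hs Fs⁆ ⊔ E1 hs

theorem U1_le : U1 hs Fs ≤ M1 hs Fs :=
  sup_le (commutator_le.2 fun _ hx _ hy => mul_mem (mul_mem (mul_mem hx hy) (inv_mem hx)) (inv_mem hy))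
    fun x hx => mem_inf.2 ⟨le_N2 (E1_le hs hx), fun y hy => h.e.comm y (E2_le h hs hy) x (E1_le hs hx)⟩

theorem U_comm {u v : G} (hu : u ∈ U1 hs Fs) (hv : v ∈ cj c.t (U1 hs Fs)) : Commute u v := by
  have m2 : cj c.t (M1 hs Fs) ≤ N0 c Es Fs := M2_eq h hs ▸ inf_le_left
  have a1 := tsl (B := cj c.t (E1 hs)) (norm1 h hs) inf_le_left m2 (fun n hn m => M1_conj h hs hn)
    (fun n hn m => M2_conj h hs hn) (fun m hm b hb => (hm.2 b hb).symm) fun x h1 h2 => by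
      obtain ⟨a, ha, b, hb, o, ho, e⟩ := dec0 h hs h1 h2
      exact ⟨a, ha, b, hb, o, ho.2.2, e⟩
  have a2 := tsl (B := E1 hs) (norm2 h hs) m2 inf_le_left (fun n hn m => M2_conj h hs hn)
    (fun n hn m => M1_conj h hs hn) (fun m hm b hb => ((M2_eq h hs ▸ hm).2 b hb).symm) fun x h1 h2 => by
      obtain ⟨a, ha, b, hb, o, ho, e⟩ := dec0 h hs h2 h1
      exact ⟨b, hb, a, ha, o, ho.2.2, by rw [e, (h.e.comm a (E1_le hs ha) b (E2_le h hs hb)).eq]⟩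
  have l2 : cj c.t (U1 hs Fs) ≤ cj c.t (M1 hs Fs) := H42.cj_mono _ (U1_le h hs)
  have k : cj c.t (U1 hs Fs) ≤ centralizer (⁅M1 hs Fs, M1 hs Fs⁆ : Subgroup G) := by
    rw [U1, H42.cj_sup]
    refine sup_le (fun y hy x hx => ?_) fun y hy x hx =>
      ((U1_le h hs (mem_sup_left hx)).2 y hy).symm
    rw [← commutatorElement_eq_one_iff_mul_comm]
    refine disj h hs (a1 (commutator_mem_commutator hx (l2 (H42.cj_mono _ le_sup_left hy)))) ?_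
    rw [← inv_mem_iff, commutatorElement_inv]
    rw [cj, map_commutator] at hy
    exact a2 (commutator_mem_commutator hy (U1_le h hs (mem_sup_left hx)))
  exact ((sup_le (le_centralizer_iff.1 k) fun x hx y hy => ((M2_eq h hs ▸ l2 hy).2 x hx).symm :
    U1 hs Fs ≤ centralizer (cj c.t (U1 hs Fs) : Set G)) hu v hv).symm

theorem U1_X : U1 hs Fs ≤ c.X := by
  refine sup_le (commutator_le.2 fun x _ y _ => c.comm_X x y) ?_
  rintro _ ⟨e, he, rfl⟩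
  obtain ⟨g, hg, h1, rfl⟩ :=
    (by decide +kernel : ∀ e : T, e ∈ E → ∃ g, g ∈ E ∧ a1 g ∈ E ∧ e = a1 g * g) e he
  rw [hs.mul _ h1 _ hg, ← hs.eqv _ c.h1_mem g hg _ h1 (c.c1 g (E_facts g hg).2.1)]
  simpa [inv_eq_of_mul_eq_one_right (h.e.sq _ (hs.mem g hg))] using c.comm_X c.h1 (s g)

theorem decL {l : G} (hl : l ∈ c.Λ) :
    ∃ u ∈ U1 hs Fs, ∃ v ∈ cj c.t (U1 hs Fs), ∃ o ∈ Zc c Es Fs, l = u * v * o := by
  obtain ⟨n, hn, a⟩ := exN h hs hl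
  have n1 : n ∈ U1 hs Fs := mem_sup_left hn
  have n2 := conj_mem_cj (g := c.t) n1
  have n3 : c.t * n * c.t⁻¹ ∈ N0 c Es Fs ⊓ centralizer (E1 hs : Set G) :=
    M2_eq h hs ▸ conj_mem_cj (U1_le h hs n1)
  have x2 : (n * (c.t * n * c.t⁻¹))⁻¹ * l ∈ cj c.t (M1 hs Fs) := by
    rw [M2_eq h hs]
    refine mem_inf.2 ⟨mul_mem (inv_mem (mul_mem (U1_le h hs n1).1 n3.1)) (le_N1 hl), ?_⟩
    rw [mul_inv_rev, mul_assoc]
    refine mul_mem (inv_mem n3.2) ?_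
    rintro _ ⟨e, he, rfl⟩
    have := a.inv.mul (hs.eqv l hl) hl e he e he (by simp)
    exact (mul_inv_eq_iff_eq_mul.1 this).symm
  have x1 : (n * (c.t * n * c.t⁻¹))⁻¹ * l ∈ M1 hs Fs := by
    have := cj_back x2
    rwa [show c.t * ((n * (c.t * n * c.t⁻¹))⁻¹ * l) * c.t⁻¹ = (c.t * n * c.t⁻¹ *
      (c.t * (c.t * n * c.t⁻¹) * c.t⁻¹))⁻¹ * (c.t * l * c.t⁻¹) by simp [mul_assoc], tt', ← (c.Lt l hl).eq,
      mul_inv_cancel_right, ← (U_comm h hs n1 n2).eq] at this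
  obtain ⟨a, ha, b, hb, o, ho, e⟩ := dec0 h hs x1 x2
  refine ⟨_, mul_mem n1 (mem_sup_right ha), _, mul_mem n2 (H42.cj_mono _ le_sup_right hb), o, ho, ?_⟩
  rw [inv_mul_eq_iff_eq_mul.1 e, (U_comm h hs (mem_sup_right ha) n2).mul_mul_mul_comm]
  group

theorem uniq {u v o : G} (hu : u ∈ U1 hs Fs) (hv : v ∈ cj c.t (U1 hs Fs)) (ho : o ∈ Zc c Es Fs)
    (e : u = v * o) : u ∈ Zc c Es Fs := by
  obtain ⟨n, hn, k⟩ := exN h hs c.h1_mem
  have n1 : n ∈ U1 hs Fs := mem_sup_left hn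
  have nM := U1_le h hs n1
  have fx : ∀ a ∈ E1 hs, Commute n a → a = 1 := by
    rintro _ ⟨e, he, rfl⟩ l
    have h1 : a1 e ∈ E ∧ (a1 e = e → e = 1) :=
      (by decide +kernel : ∀ e : T, e ∈ E → a1 e ∈ E ∧ (a1 e = e → e = 1)) e he
    have := k e he _ h1.1 (c.c1 e (E_facts e he).2.1)
    rw [l.eq, mul_inv_cancel_right] at this
    rw [h1.2 (s_inj hs he h1.1 this).symm, s_one hs]
  have v2 : v ∈ N0 c Es Fs ⊓ centralizer (E1 hs : Set G) := M2_eq h hs ▸ H42.cj_mono _ (U1_le h hs) hv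
  obtain ⟨a, ha, b, hb, p, hp, e'⟩ := dec0 h hs (U1_le h hs hu) (by
    rw [M2_eq h hs, e]
    exact mul_mem v2 (mem_inf.2 ⟨ho.1, fun x hx => (ho.2.2 x (le_N2 (E1_le hs hx))).symm⟩))
  have c1 : Commute n (a * b * p) := e' ▸ e ▸ (U_comm h hs n1 hv).mul_right (ho.2.2 n nM.1).symm
  have a1 : a = 1 := fx a ha (by
    simpa using (c1.mul_right (hp.2.2 n nM.1).symm.inv_right).mul_right
      (Commute.inv_right (show Commute n b from (nM.2 b hb).symm)))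
  have c2 : Commute (c.t * n * c.t⁻¹) (a * b * p) := e' ▸ (U_comm h hs hu (conj_mem_cj n1)).symm
  have b1 : c.t * b * c.t⁻¹ = 1 := fx _ (cj_back hb) (by
    have := (c2.mul_right (hp.2.2 _ (t_N h hs nM.1)).symm.inv_right).map (MulAut.conj c.t)
    simpa only [MulAut.conj_apply, tt', a1, one_mul, mul_inv_cancel_right] using this)
  rwa [e', a1, conj_eq_one_iff.1 b1, one_mul, one_mul]

theorem uq2 {a b a' b' : G} (ha : a ∈ U1 hs Fs) (hb : b ∈ cj c.t (U1 hs Fs)) (ha' : a' ∈ U1 hs Fs)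
    (hb' : b' ∈ cj c.t (U1 hs Fs)) {i j : ℕ} (h1 : a ^ 2 ^ i = 1) (h2 : a' ^ 2 ^ j = 1)
    (e : a * b = a' * b') : a = a' := by
  have := uniq h hs (mul_mem (inv_mem ha') ha) (mul_mem hb' (inv_mem hb)) (one_mem _) (by
    rw [mul_one, inv_mul_eq_iff_eq_mul, ← mul_assoc, ← e, mul_inv_cancel_right])
  exact two_unique this.2.1 (this.2.2 _ (U1_le h hs ha').1) h1 h2 (by group)

theorem exists_dc (x : T) : ∃ a ∈ U1 hs Fs, (∃ k, a ^ 2 ^ k = 1) ∧ c.ι x = a * (c.t * a * c.t⁻¹) := by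
  obtain ⟨u, hu, v, hv, o, ho, e⟩ := decL h hs (c.ι_mem x)
  obtain ⟨j, q, hq, hj⟩ := Nat.exists_eq_two_pow_mul_odd (Nat.card_pos (α := G)).ne'
  have p2 : ∀ g : G, (g ^ q ^ 2) ^ 2 ^ j = 1 := fun g => by
    rw [← pow_mul, sq, mul_right_comm, mul_comm q, ← hj, pow_mul, pow_card_eq_one', one_pow]
  have o1 : o ^ q ^ 2 = 1 := eq_one_of_odd (ho.2.1.of_dvd_nat (orderOf_pow_dvd _)) (p2 o)
  have x1 : c.ι x ^ q ^ 2 = c.ι x := by
    obtain ⟨r, hr⟩ : ∃ r, q ^ 2 = 8 * r + 1 := by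
      obtain ⟨m, rfl⟩ := hq
      obtain ⟨r, hr⟩ := Nat.even_mul_succ_self m
      exact ⟨r, by nlinarith⟩
    rw [hr, pow_succ, pow_mul, ← map_pow, pow8, map_one, one_pow, one_mul]
  have v1 : v ∈ N0 c Es Fs := (M2_eq h hs ▸ H42.cj_mono _ (U1_le h hs) hv).1
  have e1 : c.ι x = u ^ q ^ 2 * v ^ q ^ 2 := by
    rw [← x1, e, (ho.2.2 _ (mul_mem (U1_le h hs hu).1 v1)).symm.mul_pow, o1, mul_one,
      (U_comm h hs hu hv).mul_pow]
  have ha := pow_mem hu (q ^ 2)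
  have hb := pow_mem hv (q ^ 2)
  refine ⟨_, ha, ⟨j, p2 u⟩, e1.trans ?_⟩
  have e2 : u ^ q ^ 2 = c.t * v ^ q ^ 2 * c.t⁻¹ :=
    uq2 h hs ha hb (cj_back hb) (conj_mem_cj ha) (p2 u) (j := j) (by rw [conj_pow, p2]; simp) (by
      rw [(U_comm h hs (cj_back hb) (conj_mem_cj ha)).eq, conj_mul, ← e1, ← (c.ιt x).eq,
        mul_inv_cancel_right])
  rw [e2, tt']

theorem two_dc {x y : T} {a b : G} (ha : a ∈ U1 hs Fs) (hb : b ∈ U1 hs Fs) {i j : ℕ} (h1 : a ^ 2 ^ i = 1)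
    (h2 : b ^ 2 ^ j = 1) (e1 : c.ι x = a * (c.t * a * c.t⁻¹)) (e2 : c.ι y = b * (c.t * b * c.t⁻¹)) :
    ∃ k, (a * b) ^ 2 ^ k = 1 := by
  let R : Subgroup G :=
    { carrier := {u | u ∈ U1 hs Fs ∧ ∃ x, ∃ v ∈ cj c.t (U1 hs Fs), c.ι x = u * v}
      one_mem' := ⟨one_mem _, 1, 1, one_mem _, by simp⟩
      mul_mem' := fun ⟨hu, x, v, hv, e⟩ ⟨hu', x', v', hv', e'⟩ => ⟨mul_mem hu hu', x * x', _,
        mul_mem hv hv', by rw [map_mul, e, e', (U_comm h hs hu' hv).symm.mul_mul_mul_comm]⟩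
      inv_mem' := fun ⟨hu, x, v, hv, e⟩ => ⟨inv_mem hu, x⁻¹, _, inv_mem hv, by
        rw [map_inv, e, (U_comm h hs hu hv).eq, mul_inv_rev]⟩ }
  refine two_mul (U := R) (Z := Zc c Es Fs) (fun o ho => ⟨ho.2.1, fun u hu =>
    ho.2.2 u (U1_le h hs hu.1).1⟩) (fun u ⟨hu, x, v, hv, e⟩ => ⟨3, uniq h hs (pow_mem hu _)
      (inv_mem (pow_mem hv 8)) (one_mem _) ?_⟩) ⟨ha, x, _, conj_mem_cj ha, e1⟩
      ⟨hb, y, _, conj_mem_cj hb, e2⟩ h1 h2
  rw [mul_one, eq_inv_iff_mul_eq_one, show 2 ^ 3 = 8 from rfl, ← (U_comm h hs hu hv).mul_pow, ← e,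
    ← map_pow, pow8, map_one]

theorem exists_k1 : ∃ k : T →* G, ∀ x, k x ∈ U1 hs Fs ∧ c.ι x = k x * (c.t * k x * c.t⁻¹) := by
  choose k k1 k2 k3 using exists_dc h hs
  refine ⟨MonoidHom.mk' k fun x y => ?_, fun x => ⟨k1 x, k3 x⟩⟩
  obtain ⟨i, hi⟩ := k2 x
  obtain ⟨j, hj⟩ := k2 y
  obtain ⟨l, hl⟩ := k2 (x * y)
  obtain ⟨m, hm⟩ := two_dc h hs (k1 x) (k1 y) hi hj (k3 x) (k3 y)
  refine uq2 h hs (k1 _) (conj_mem_cj (k1 (x * y))) (mul_mem (k1 x) (k1 y))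
    (conj_mem_cj (mul_mem (k1 x) (k1 y))) hl hm ?_
  rw [← k3, map_mul, k3, k3, (U_comm h hs (k1 y) (conj_mem_cj (k1 x))).symm.mul_mul_mul_comm, conj_mul]

end PD

open PD in
theorem Sx.exists_pr (h : Sx c Es Fs) (hs : Sp c Es s) : ∃ κ, Pr c κ := by
  obtain ⟨k, hk⟩ := exists_k1 h hs
  have cm : ∀ a b, Commute (k a) (c.t * k b * c.t⁻¹) := fun a b =>
    U_comm h hs (hk a).1 (conj_mem_cj (hk b).1)
  have k8 : ∀ a, k a ^ 2 ^ 3 = 1 := fun a => by rw [← map_pow, show 2 ^ 3 = 8 from rfl, pow8, map_one]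
  let κ : T × T →* G := k.noncommCoprod ((MulAut.conj c.t).toMonoidHom.comp k) cm
  have e : ∀ a b, κ (a, b) = k a * (c.t * k b * c.t⁻¹) := fun _ _ => rfl
  have sw : ∀ a b, c.t * κ (a, b) * c.t⁻¹ = κ (b, a) := fun a b => by
    rw [e, e, ← conj_mul, tt', (cm b a).eq]
  have dg : ∀ x, κ (x, x) = c.ι x := fun x => (hk x).2.symm
  have k1 : ∀ a, k a = 1 → a = 1 := fun a l => c.inj (by rw [(hk a).2, l, map_one]; simp)
  have kF : ∀ f ∈ F, κ (f, 1) ∈ Fs ∧ κ (f, 1) * c.t * (κ (f, 1))⁻¹ = c.t * c.ι f := fun f hf => by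
    have f2 : κ (f, 1) * κ (f, 1) = 1 := by
      rw [← map_mul, Prod.mk_mul_mk, opEF.sq' f hf, mul_one, Prod.mk_one_one, map_one]
    have p : κ (f, 1) * c.t * (κ (f, 1))⁻¹ = c.t * c.ι f := by
      rw [inv_eq_of_mul_eq_one_right f2, ← dg, show (f, f) = (1, f) * (f, 1) by simp, map_mul, ← sw f 1,
        ← mul_assoc, ← mul_assoc, ← mul_assoc, c.tt, one_mul, ti]
    refine ⟨?_, p⟩
    by_cases f1 : f = 1
    · rw [f1, Prod.mk_one_one, map_one]; exact one_mem _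
    refine h.f.max _ f2 (fun g hg => ?_) (fun o ho => ?_) ⟨f, hf, f1, p⟩
    · rw [← dg]
      exact Commute.map (by simp [Commute, SemiconjBy, opEF.cm' f hf g hg]) κ
    · rw [e, map_one]
      simpa using h.cO (U1_le h hs (hk f).1).1 o ho
  refine ⟨κ, (injective_iff_map_eq_one κ).2 fun ⟨a, b⟩ l => ?_, fun a b => by rw [← sw a b, ti], dg,
    fun l hl => ?_, fun g gt gF a ha b hb => ?_⟩
  · have a1 := k1 a (uq2 h hs (hk a).1 (conj_mem_cj (hk b).1) (one_mem _) (one_mem _) (k8 a) (j := 0)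
      (one_pow _) (by rw [← e, l, one_mul]))
    rw [e, a1, map_one, one_mul, conj_eq_one_iff] at l
    rw [a1, k1 b l, Prod.mk_one_one]
  · obtain ⟨u, hu, v, hv, o, ho, rfl⟩ := decL h hs hl
    refine ⟨u, U1_X h hs hu, fun b => ?_, fun x y l => ?_⟩
    · rw [e, map_one, one_mul]
      exact U_comm h hs hu (conj_mem_cj (hk b).1)
    · have m1 := mul_mem (mul_mem hu (hk x).1) (inv_mem hu)
      have m2 := mul_mem (mul_mem hv (conj_mem_cj (g := c.t) (hk x).1)) (inv_mem hv)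
      simp only [e, map_one, mul_one, mul_inv_cancel]
      refine uq2 h hs m1 m2 (hk y).1 (conj_mem_cj (hk y).1) (i := 3) (by rw [conj_pow, k8]; simp)
        (k8 y) ?_
      have c1 := (U_comm h hs (hk x).1 hv).eq
      have c2 := (U_comm h hs hu m2).inv_left.eq
      rw [← (hk y).2, ← l, mul_assoc (u * v) o, (ho.2.2 _ (le_N1 (c.ι_mem x))).eq, (hk x).2,
        mul_assoc (u * k x), c2]
      calc _ = u * (k x * v) * (c.t * k x * c.t⁻¹) * v⁻¹ * u⁻¹ := by group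
        _ = _ := by rw [c1]; group
  · have m : κ (a, b) ∈ Fs := by
      rw [show (a, b) = (a * b⁻¹, 1) * (b, b) by simp, map_mul, dg]
      exact mul_mem (kF _ (mul_mem ha (inv_mem hb))).1 (h.f.DR b hb)
    have m' := h.f.norm g ⟨1, one_mem _, φ_one gt⟩ gF _ m
    obtain ⟨f, hf, p⟩ := h.f.φ _ m'
    obtain ⟨f', hf', q⟩ := h.f.ker _ (mul_mem (inv_mem (kF f hf).1) m')
      (comm_of_φ ((kF f hf).2.trans p.symm))
    exact ⟨f * f', mul_mem hf hf', f', hf', by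
      rw [inv_mul_eq_iff_eq_mul.1 q, ← dg, ← map_mul]; simp⟩

end Cfsg.Agent.WR
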