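import Cfsg.Agent.WR.RedH

/-! Project WR: the configuration in `C(t)` (notes/WR.md, section Red3). -/

set_option autoImplicit false

namespace Cfsg.Agent.WR

open Subgroup Cfsg.Agent.H78
open Cfsg.Agent.H42 (SylIn cj)

theorem odd_mul_of_cen {C : Type*} [Group C] [Finite C] (h : Odd (center C).index) {x y : C}
    (hx : Odd (orderOf x)) (hy : Odd (orderOf y)) : Odd (orderOf (x * y)) := by
  have e := map_mul (MonoidHom.transferCenterPow C) x y
  have k : ∀ x : C, MonoidHom.transferCenterPow C x ^ orderOf x = 1 := fun x => by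
    rw [← map_pow, pow_orderOf_eq_one, map_one]
  have : MonoidHom.transferCenterPow C (x * y) ^ (orderOf x * orderOf y) = 1 := by
    rw [e, Commute.mul_pow (Subtype.ext (mem_center_iff.1 (MonoidHom.transferCenterPow C y).2 _)), pow_mul, k,
      one_pow, one_mul, pow_mul', k, one_pow]
  have h2 := congrArg Subtype.val this
  rw [SubmonoidClass.coe_pow, MonoidHom.transferCenterPow_apply, ← pow_mul] at h2
  exact (h.mul (hx.mul hy)).of_dvd_nat (orderOf_dvd_of_pow_eq_one h2)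

variable {A G : Type*} [Group A] [Group G] [Finite A] [Finite G]

theorem St.two_K (s : St A G) (h : SylIn 2 (zpowers s.t) s.K) {a : G} (ha : a ∈ s.K) (c : Commute a s.t)
    {k : ℕ} (e : a ^ 2 ^ k = 1) : a = 1 ∨ a = s.t := by
  have := h.eq_of_le ((ra_two e).to_sup_of_normal_right' h.isP (zpowers_le.2
    (H42.mem_normalizer_of_conj_mem (by
      rintro _ ⟨i, rfl⟩
      exact ⟨i, (c.zpow_right i).mul_inv_cancel.symm⟩)))) (sup_le (zpowers_le.2 ha) h.le) le_sup_right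
  obtain ⟨i, hi⟩ := this ▸ mem_sup_left (mem_zpowers a)
  rcases Int.even_or_odd' i with ⟨n, rfl | rfl⟩
  · exact .inl (by simpa only [zpow_mul, zpow_ofNat, pow_two, s.tt, one_zpow] using hi.symm)
  · exact .inr (by simpa only [zpow_add, zpow_mul, zpow_ofNat, pow_two, s.tt, one_zpow, one_mul, pow_one]
      using hi.symm)

/-- the elements of odd order of `C_K(t)` -/
def St.O (s : St A G) (h : SylIn 2 (zpowers s.t) s.K) : Subgroup G where
  carrier := {o | o ∈ s.K ∧ Commute o s.t ∧ Odd (orderOf o)}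
  one_mem' := ⟨one_mem _, Commute.one_left _, by simp⟩
  inv_mem' := fun h => ⟨inv_mem h.1, h.2.1.inv_left, by rw [orderOf_inv]; exact h.2.2⟩
  mul_mem' := by
    intro a b ha hb
    refine ⟨mul_mem ha.1 hb.1, ha.2.1.mul_left hb.2.1, ?_⟩
    have le : zpowers s.t ≤ s.K ⊓ centralizer {s.t} :=
      zpowers_le.2 ⟨s.tK, mem_centralizer_singleton_iff.2 rfl⟩
    have := odd_mul_of_cen (C := ↥(s.K ⊓ centralizer {s.t})) (x := ⟨a, ha.1, mem_centralizer_singleton_iff.2 ha.2.1⟩)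
      (y := ⟨b, hb.1, mem_centralizer_singleton_iff.2 hb.2.1⟩) (by
        refine Nat.not_even_iff_odd.1 fun e => (h.of_le le inf_le_left).ndvd
          ((even_iff_two_dvd.1 e).trans (index_dvd_of_le ?_))
        rintro ⟨x, hx⟩ ⟨i, rfl⟩
        exact mem_center_iff.2 fun y => Subtype.ext
          ((show Commute (y : G) s.t from mem_centralizer_singleton_iff.1 y.2.2).zpow_right i))
      (by rw [← orderOf_coe]; exact ha.2.2) (by rw [← orderOf_coe]; exact hb.2.2)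
    rwa [← orderOf_coe] at this

theorem St.parts (s : St A G) (h : SylIn 2 (zpowers s.t) s.K) {k : G} (hk : k ∈ s.K) (c : Commute k s.t) :
    ∃ o ∈ s.O h, k = o ∨ k = s.t * o := by
  obtain ⟨a, o, n, ha, ho, a2, oo, e, -⟩ := exists_parts k
  have cm : ∀ x ∈ zpowers k, Commute x s.t := by
    rintro _ ⟨i, rfl⟩
    exact c.zpow_left i
  refine ⟨o, ⟨zpowers_le.2 hk ho, cm o ho, oo⟩, ?_⟩
  rcases s.two_K h (zpowers_le.2 hk ha) (cm a ha) a2 with rfl | rfl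
  exacts [.inl (e.trans (one_mul o)), .inr e]

/-- the elements of `C(t)` inducing inner automorphisms -/
def St.H (s : St A G) : Subgroup G where
  carrier := {g | Commute g s.t ∧ s.Inn g}
  one_mem' := ⟨Commute.one_left _, s.inn_L (one_mem _)⟩
  inv_mem' := by
    rintro _ ⟨c, k, hk, l, hl, rfl⟩
    exact ⟨c.inv_left, _, inv_mem hk, _, inv_mem hl,
      (show Commute k l from (mem_centralizer_iff.1 hk l hl).symm).mul_inv⟩
  mul_mem' := by
    rintro _ _ ⟨c, k, hk, l, hl, rfl⟩ ⟨c', k', hk', l', hl', rfl⟩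
    exact ⟨c.mul_left c', _, mul_mem hk hk', _, mul_mem hl hl',
      (show Commute l k' from mem_centralizer_iff.1 hk' l hl).mul_mul_mul_comm _ _⟩

theorem St.exists_cf (m : MF A) (s : St A G) (h1 : SylIn 2 (zpowers s.t) s.K)
    (h2 : ∃ g, g ∉ s.N ∧ s.Inn (g * s.t * g⁻¹)) : Nonempty (Cf G) := by
  obtain ⟨j, lf⟩ := s.exists_lf m
  obtain ⟨l1, e1⟩ := s.onto m.h1
  obtain ⟨l2, e2⟩ := s.onto m.h2
  obtain ⟨l7, e7⟩ := s.onto m.y7
  obtain ⟨ln, en⟩ := s.onto m.n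
  obtain ⟨lF, eF, oF⟩ : ∃ l, s.ρ l = m.gF ∧ Odd (orderOf l) := by
    obtain ⟨l, e⟩ := s.onto m.gF
    obtain ⟨a, o, k, -, -, a2, oo, e', n, -, rfl⟩ := exists_parts l
    refine ⟨o, ?_, oo⟩
    rw [← e, congrArg s.ρ e', map_mul, eq_one_of_odd (o := s.ρ (l ^ n)) (k := k)
      (by rw [map_pow, e]; exact m.godd.of_dvd_nat (orderOf_pow_dvd n)) (by rw [← map_pow, a2, map_one]),
      one_mul]
  let g : GF G := ⟨j, l1, l2, l7, ln, lf.inj, fun x hx => lf.actL l1 (e1 ▸ m.c1 x hx),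
    fun x hx => lf.actL l2 (e2 ▸ m.c2 x hx), fun x hx => lf.actL l7 (e7 ▸ m.c7 x hx),
    fun x hx => lf.actL ln (en ▸ m.cn x hx), lf.actL ln (en ▸ m.nσ)⟩
  have ΛL : g.Λ ≤ s.L := sup_le (by rintro _ ⟨x, rfl⟩; exact lf.mem x) ((closure_le _).2 (by
    rintro _ (rfl | rfl | rfl | rfl)
    exacts [l1.2, l2.2, l7.2, ln.2]))
  have LK : ∀ {l k}, l ∈ s.L → k ∈ s.K → Commute l k := fun hl hk => mem_centralizer_iff.1 hk _ hl
  have cN : ∀ {x}, Commute x s.t → x ∈ s.N := fun c => s.cen_le s.tK s.tt s.t1 c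
  have toK : ∀ {x y}, x ∈ s.N → s.Ind x (MulAut.conj (m.ι y)) → (j y)⁻¹ * x ∈ s.K := fun {x y} hx h => by
    have := s.ind_mul hx (s.ind_conj ⟨j y, lf.mem y⟩⁻¹) h
    rw [map_inv, lf.eq, map_inv, inv_mul_cancel] at this
    exact (s.ind_one (mul_mem (inv_mem (le_normalizer (lf.mem y))) hx)).1 this
  have cD : ∀ {D}, D = E ∨ D = F → ∀ x, Commute x s.t → (∀ e ∈ D, Commute x (j e)) →
      ∃ e ∈ D, ∃ o ∈ s.O h1, x = j e * o ∨ x = s.t * j e * o := fun hD x c h => by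
    obtain ⟨γ, hγ⟩ := s.ind_ex m (cN c)
    obtain ⟨e, he, rfl⟩ := m.autC hD (γ := γ) fun e he => by
      rw [← lf.eq, ← hγ ⟨j e, lf.mem e⟩ ⟨j e, lf.mem e⟩ (h e he).mul_inv_cancel]
    obtain ⟨o, ho, k⟩ := s.parts h1 (toK (cN c) hγ) ((LK (lf.mem e) s.tK).inv_left.mul_left c)
    refine ⟨e, he, o, ho, k.imp (fun k => by rw [← k, mul_inv_cancel_left]) fun k => ?_⟩
    rw [← (LK (lf.mem e) s.tK).eq, mul_assoc, ← k, mul_inv_cancel_left]
  obtain ⟨π, hπ⟩ := s.exists_pi m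
  have tL : s.t ∉ s.L := fun h => s.t1 (eq_one_of_odd (s.odd_KL m s.tK h) (k := 1)
    (by rw [pow_one, pow_two, s.tt]))
  have nfus : ¬ IsConj s.t (j z) := fun h => by
    obtain ⟨x, e⟩ := isConj_iff.1 h.symm
    obtain ⟨y, hy⟩ : ∃ y : T, y * y * (y * y) = z := by decide +kernel
    have e4 : x * j y * x⁻¹ * (x * j y * x⁻¹) * (x * j y * x⁻¹ * (x * j y * x⁻¹)) = s.t := by
      rw [conj_mul, conj_mul, ← map_mul, ← map_mul, hy, e]
    generalize x * j y * x⁻¹ = w at e4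
    have c : Commute w s.t := by
      rw [← e4]
      exact ((Commute.refl w).mul_right (Commute.refl w)).mul_right
        ((Commute.refl w).mul_right (Commute.refl w))
    obtain ⟨k, hk, l, hl, e⟩ := s.inn_sq m (cN c)
    have c1 : Commute k s.t := by
      rw [eq_mul_inv_of_mul_eq e.symm]
      exact (c.mul_left c).mul_left (LK hl s.tK).inv_left
    obtain ⟨o, ho, e'⟩ := s.parts h1 hk c1
    have e5 : k * k = o * o := by
      rcases e' with rfl | rfl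
      · rfl
      · rw [ho.2.1.mul_mul_mul_comm, s.tt, one_mul]
    rw [e, (LK hl hk).mul_mul_mul_comm, e5] at e4
    have hO : l * l ∈ s.O h1 := by
      have : l * l ∈ s.K := (mul_mem_cancel_left (mul_mem ho.1 ho.1)).1 (e4 ▸ s.tK)
      exact ⟨this, LK (mul_mem hl hl) s.tK, s.odd_KL m this (mul_mem hl hl)⟩
    exact s.t1 (eq_one_of_odd (e4 ▸ mul_mem (mul_mem ho ho) hO : s.t ∈ s.O h1).2.2 (k := 1)
      (by rw [pow_one, pow_two, s.tt]))
  refine ⟨⟨g, s.X, s.O h1, s.H, s.t, lF, s.tt, s.t1, s.Xn, s.Xs, s.Xp, s.Xi, ?_, fun o ho => ho.2.1,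
    fun x c o ho => ⟨s.conj_K (cN c) ho.1, (c.mul_left ho.2.1).mul_left c.inv_left,
      by rw [← MulAut.conj_apply, MulEquiv.orderOf_eq]; exact ho.2.2⟩,
    fun l hl => LK (ΛL hl) s.tK, fun l hl o ho => LK (ΛL hl) ho.1,
    fun l hl => ⟨LK (ΛL hl) s.tK, s.inn_L (ΛL hl)⟩, fun h => tL (ΛL h), cD (.inl rfl), cD (.inr rfl),
    fun h hh => hh.1, ?_, ?_, ?_, nfus, LK lF.2 s.tK, s.LX lF.2, by rwa [orderOf_coe], fun e he => ?_,
    lf.actL lF (eF ▸ m.gz)⟩⟩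
  · refine Nat.not_even_iff_odd.1 fun e => ?_
    obtain ⟨o, ho⟩ := exists_prime_orderOf_dvd_card' 2 (even_iff_two_dvd.1 e)
    have := o.2.2.2
    rw [orderOf_coe, ho] at this
    exact absurd this (by decide)
  · have le : zpowers s.t ⊔ j.range ≤ s.H := sup_le (zpowers_le.2 ⟨Commute.refl _,
      _, s.tK, 1, one_mem _, (mul_one _).symm⟩) (by
        rintro _ ⟨x, rfl⟩
        exact ⟨LK (lf.mem x) s.tK, s.inn_L (lf.mem x)⟩)
    obtain ⟨Q, hQ, lQ⟩ := H42.exists_sylIn (h1.isP.to_sup_of_normal_right'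
      (T_two.of_surjective _ j.rangeRestrict_surjective) (zpowers_le.2 (centralizer_le_normalizer _
        (mem_centralizer_iff.2 (by rintro _ ⟨x, rfl⟩; exact LK (lf.mem x) s.tK))))) le
    refine (le_antisymm lQ fun q hq => ?_).symm ▸ hQ
    have sA : SylIn 2 m.ι.range ⊤ := ⟨le_top, T_two.of_surjective _ m.ι.rangeRestrict_surjective, by
      rw [relIndex_top_right]; exact m.syl.not_two_dvd_nat⟩
    have eB := sA.eq_of_le (((hQ.isP.comap_subtype (K := s.N)).map π).comap_of_injective _ m.raInj) le_top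
      (by
        rintro _ ⟨x, rfl⟩
        refine ⟨⟨j x, le_normalizer (lf.mem x)⟩, lQ (mem_sup_right ⟨x, rfl⟩), ?_⟩
        rw [← lf.eq]
        exact s.ind_unique (le_normalizer (lf.mem x)) (hπ ⟨j x, le_normalizer (lf.mem x)⟩) (s.ind_conj ⟨j x, lf.mem x⟩))
    have qN := cN (hQ.le hq).1
    obtain ⟨a, ha⟩ := (s.inn_iff qN (hπ ⟨q, qN⟩)).1 (hQ.le hq).2
    obtain ⟨x, rfl⟩ : a ∈ m.ι.range := eB ▸ (⟨⟨q, qN⟩, hq, ha⟩ : a ∈ comap _ (map π _))
    have hx : j x ∈ zpowers s.t ⊔ j.range := mem_sup_right ⟨x, rfl⟩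
    obtain ⟨k, e⟩ := hQ.isP ⟨_, mul_mem (inv_mem (lQ hx)) hq⟩
    rw [← mul_mem_cancel_left (inv_mem hx)]
    rcases s.two_K h1 (toK qN (ha ▸ hπ ⟨q, qN⟩)) ((LK (lf.mem x) s.tK).inv_left.mul_left (hQ.le hq).1)
      (congrArg Subtype.val e) with e | e <;> rw [e]
    exacts [one_mem _, mem_sup_left (mem_zpowers _)]
  · refine (em _).imp_right fun hc => ?_
    push Not at hc
    obtain ⟨c, ct, cH⟩ := hc
    have nc : ¬ ∃ a, π ⟨c, cN ct⟩ = MulAut.conj a := fun e => cH ⟨ct, (s.inn_iff (cN ct) (hπ ⟨c, cN ct⟩)).2 e⟩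
    obtain ⟨o, β, o2, sw, ho, all⟩ := m.out.resolve_left fun e => nc (e _)
    obtain ⟨a, e | e⟩ := all (π ⟨c, cN ct⟩)
    · exact absurd ⟨a, e⟩ nc
    have no : ¬ ∃ b, o = MulAut.conj b := fun ⟨b, eb⟩ => nc ⟨b * a, by rw [e, eb, map_mul]⟩
    obtain ⟨l, rfl⟩ := s.onto a
    let r0 : s.N := ⟨c, cN ct⟩ * (⟨l, le_normalizer l.2⟩ : s.N)⁻¹
    have p0 : π r0 = o := by
      rw [map_mul, map_inv, e, s.ind_unique (le_normalizer l.2) (hπ ⟨l, _⟩) (s.ind_conj l),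
        mul_inv_cancel_right]
    have c0 : Commute (r0 : G) s.t := ct.mul_left (LK l.2 s.tK).inv_left
    clear_value r0
    obtain ⟨_, -, k, -, -, a2, -, -, _, ⟨n, rfl⟩, rfl⟩ := exists_parts r0
    have p1 : π (r0 ^ (2 * n + 1)) = o := by
      rw [map_pow, p0, pow_succ, pow_mul, pow_two, o2, one_pow, one_mul]
    have c1 : Commute ((r0 ^ (2 * n + 1) : s.N) : G) s.t := c0.pow_left _
    generalize r0 ^ (2 * n + 1) = r at a2 p1 c1
    refine ⟨r, β, c1, s.two_K h1 ((s.ind_one (r * r).2).1 ?_) (c1.mul_left c1) (k := k) ?_, sw,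
      fun x => lf.act r.2 (hπ r) (p1 ▸ ho x), fun h => no (p1 ▸ (s.inn_iff r.2 (hπ r)).1 h.2), fun x cx => ?_⟩
    · have := hπ (r * r)
      rwa [map_mul, p1, o2] at this
    · rw [(Commute.refl _).mul_pow, ← SubmonoidClass.coe_pow, a2, OneMemClass.coe_one, mul_one]
    · rcases m.sq_inn (π ⟨x, cN cx⟩) o with e | e | e
      · exact .inl ⟨cx, (s.inn_iff (cN cx) (hπ ⟨x, cN cx⟩)).2 e⟩
      · exact absurd e no
      · exact .inr ⟨cx.mul_left c1, (s.inn_iff (mul_mem (cN cx) r.2) (hπ (⟨x, cN cx⟩ * r))).2 (by rwa [map_mul, p1])⟩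
  · obtain ⟨x, x1, hx⟩ := h2
    obtain ⟨k, hk, l, hl, k2, l2, e⟩ := s.inn_inv m hx (by rw [conj_mul, s.tt, mul_one, mul_inv_cancel])
    have l2' : (⟨l, hl⟩ : s.L) ^ 2 ^ 1 = 1 := Subtype.ext (by rw [pow_one, pow_two]; exact l2)
    obtain ⟨b, hb⟩ := m.invA (a := s.ρ ⟨l, hl⟩) (by rw [← map_mul, ← pow_two, ← pow_one 2, l2', map_one])
      fun c => x1 (s.tight x _ s.tK s.tt s.t1 (by
        rw [e, show l = 1 from congrArg Subtype.val (s.two_eq l2' (one_pow (2 ^ 1)) (c.trans (map_one _).symm)),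
          mul_one]
        exact hk))
    obtain ⟨l0, rfl⟩ := s.onto b
    have e2 : (l0 : G) * l * (l0 : G)⁻¹ = j z := congrArg Subtype.val (s.two_eq (l := l0 * ⟨l, hl⟩ * l0⁻¹)
      (l' := ⟨j z, lf.mem z⟩) (i := 1) (j := 3) (by rw [conj_pow, l2', mul_one, mul_inv_cancel])
      (Subtype.ext (show j z ^ 2 ^ 3 = 1 by rw [← map_pow, show 2 ^ 3 = 8 from rfl, pow8, map_one]))
      (by rw [map_mul, map_mul, map_inv, hb, lf.eq]))
    have e3 : IsConj s.t (k * j z) := (isConj_iff.2 ⟨x, e⟩).trans (isConj_iff.2 ⟨l0, by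
      rw [← conj_mul, e2, (LK l0.2 hk).mul_inv_cancel]⟩)
    obtain ⟨k0, hk0, e4⟩ := s.conj_t h1 hk k2 fun c => nfus (by rwa [c, one_mul] at e3)
    exact e3.trans (isConj_iff.2 ⟨k0, by rw [← conj_mul, e4, (LK (lf.mem z) hk0).symm.mul_inv_cancel]⟩)
  · obtain ⟨e', he', h⟩ := m.gN e he
    exact ⟨e', he', lf.actL lF (eF ▸ h)⟩

end Cfsg.Agent.WR
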