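import Cfsg.Agent.WR.RedA

/-! Project WR: small lemmas shared by RedC and Red3. -/

set_option autoImplicit false

namespace Cfsg.Agent.WR

open Subgroup Cfsg.Agent.H78
open Cfsg.Agent.H42 (SylIn cj)

variable {A G : Type*} [Group A] [Group G] [Finite A] [Finite G] {m : MF A} {s : St A G} {j : T →* G}

theorem Lf.act (lf : Lf m s j) {n : G} (hn : n ∈ s.N) {γ : MulAut A} (h : s.Ind n γ) {y y' : T}
    (e : γ (m.ι y) = m.ι y') : n * j y * n⁻¹ = j y' := by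
  have p8 : ∀ y, j y ^ 2 ^ 3 = 1 := fun y => by rw [← map_pow, show 2 ^ 3 = 8 from rfl, pow8, map_one]
  exact congrArg Subtype.val (s.two_eq (l := ⟨_, s.raN hn ⟨j y, lf.mem y⟩⟩) (l' := ⟨j y', lf.mem y'⟩)
    (i := 3) (j := 3) (Subtype.ext (show (n * j y * n⁻¹) ^ 2 ^ 3 = 1 by
      rw [conj_pow, p8, mul_one, mul_inv_cancel])) (Subtype.ext (p8 y'))
    (by rw [h ⟨j y, lf.mem y⟩ _ rfl, lf.eq, lf.eq, e]))

theorem Lf.actL (lf : Lf m s j) (l : s.L) {y y' : T} (e : s.ρ l * m.ι y * (s.ρ l)⁻¹ = m.ι y') :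
    l * j y * (l : G)⁻¹ = j y' := lf.act (le_normalizer l.2) (s.ind_conj l) e

omit [Finite A] [Finite G] in
theorem Lf.inj (lf : Lf m s j) : Function.Injective j := fun y y' e =>
  m.inj (by rw [← lf.eq, ← lf.eq]; exact congrArg s.ρ (Subtype.ext e))

omit [Finite A] [Finite G] in
theorem St.inn_L (s : St A G) {l : G} (h : l ∈ s.L) : s.Inn l := ⟨1, one_mem _, l, h, (one_mul l).symm⟩

omit [Finite A] [Finite G] in
theorem St.inn_K (s : St A G) {k x : G} (hk : k ∈ s.K) (h : s.Inn x) : s.Inn (k * x) := by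
  obtain ⟨k', hk', l, hl, rfl⟩ := h
  exact ⟨_, mul_mem hk hk', l, hl, (mul_assoc _ _ _).symm⟩

theorem St.inn_N (s : St A G) {x : G} (h : s.Inn x) : x ∈ s.N := by
  obtain ⟨k, hk, l, hl, rfl⟩ := h
  exact mul_mem (s.K_le hk) (le_normalizer hl)

theorem St.inn_sq (s : St A G) (m : MF A) {n : G} (hn : n ∈ s.N) : s.Inn (n * n) := by
  obtain ⟨γ, h⟩ := s.ind_ex m hn
  refine (s.inn_iff (mul_mem hn hn) (s.ind_mul hn h h)).2 ?_
  rcases m.sq_inn γ γ with ⟨a, rfl⟩ | ⟨a, rfl⟩ | e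
  exacts [⟨a * a, (map_mul _ _ _).symm⟩, ⟨a * a, (map_mul _ _ _).symm⟩, e]

theorem St.conj_t (s : St A G) (h : SylIn 2 (zpowers s.t) s.K) {u : G} (hu : u ∈ s.K) (u2 : u * u = 1)
    (u1 : u ≠ 1) : ∃ k ∈ s.K, k * u * k⁻¹ = s.t := by
  obtain ⟨k, hk, e⟩ := h.exists_conj (ra_two (k := 1) (by rwa [pow_one, pow_two])) (zpowers_le.2 hu)
  refine ⟨k, hk, ?_⟩
  obtain ⟨i, hi⟩ := e u (mem_zpowers u)
  rcases Int.even_or_odd' i with ⟨n, rfl | rfl⟩
  · simp only [zpow_mul, zpow_ofNat, pow_two, s.tt, one_zpow] at hi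
    exact absurd (conj_eq_one_iff.1 hi.symm) u1
  · simpa only [zpow_add, zpow_mul, zpow_ofNat, pow_two, s.tt, one_zpow, one_mul, pow_one] using hi.symm

end Cfsg.Agent.WR
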