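import Cfsg.Agent.WR.RedB
import Cfsg.Agent.WR.RedH

/-! Project WR: `|K|₂ = 2` (notes/WR.md, section RedC). -/

set_option autoImplicit false

namespace Cfsg.Agent.WR

open Subgroup Cfsg.Agent.H78
open Cfsg.Agent.H42 (SylIn cj)

variable {A G : Type*} [Group A] [Group G] [Finite A] [Finite G]

theorem St.not_out (m : MF A) (s : St A G) (hO : ∀ g u, u ∈ s.K → u * u = 1 → u ≠ 1 →
    s.Inn (g * u * g⁻¹) → g ∈ s.N) : False := by
  obtain ⟨g0, u, g1, hu, u2, u1, hN⟩ := s.ex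
  obtain ⟨j, lf⟩ := s.exists_lf m
  obtain ⟨g, β, g1, sw, e⟩ : ∃ g β, g ∉ s.N ∧ Sw β ∧ ∀ y, g * u * g⁻¹ * j y * (g * u * g⁻¹)⁻¹ = j (β y) := by
    obtain ⟨γ, h⟩ := s.ind_ex m hN
    have h2 := s.ind_mul hN h h
    rw [conj_mul, u2, mul_one, mul_inv_cancel] at h2
    obtain ⟨a, ha⟩ := m.autSyl (ra_two (g := γ) (k := 1) (by
      rw [pow_one, pow_two]
      exact s.ind_unique (one_mem _) h2 ((s.ind_one (one_mem _)).2 (one_mem _))))
    rcases ha γ (mem_zpowers γ) with ⟨x, e⟩ | ⟨-, β, sw, e⟩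
    · exact absurd (hO _ _ hu u2 u1 ((s.inn_iff hN h).2 ⟨a⁻¹ * m.ι x * a, by
        rw [map_mul, map_mul, ← e, map_inv]; group⟩)) g1
    · obtain ⟨l, rfl⟩ := s.onto a
      have lN : (l : G) ∈ s.N := le_normalizer l.2
      have := s.ind_mul (inv_mem lN) (s.ind_mul hN (s.ind_conj l) h) (s.ind_conj l⁻¹)
      rw [map_inv, map_inv] at this
      refine ⟨l * g0, β, fun c => g1 ((mul_mem_cancel_left lN).1 c), sw, fun y => ?_⟩
      rw [show (l : G) * g0 * u * (l * g0)⁻¹ = l * (g0 * u * g0⁻¹) * (l : G)⁻¹ by group]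
      exact lf.act (mul_mem (mul_mem lN hN) (inv_mem lN)) this (e y)
  have s2 : g * u * g⁻¹ * (g * u * g⁻¹) = 1 := by rw [conj_mul, u2, mul_one, mul_inv_cancel]
  obtain ⟨⟨q, hq, q2⟩, x, hx⟩ := lemO sw (MulEquiv.ext fun y => lf.inj (by
    rw [MulAut.mul_apply, ← e, ← e, ← mul_assoc, ← mul_assoc, s2, one_mul, mul_assoc, ← mul_inv_rev, s2,
      inv_one, mul_one]
    rfl))
  have c1 : Commute (g⁻¹ * j q * g) u := by
    have := (show Commute (g * u * g⁻¹) (j q) from mul_inv_eq_iff_eq_mul.1 (by rw [e, hq])).conj g⁻¹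
    simpa [mul_assoc] using this.symm
  have i1 := s.inn_sq m (s.cen_le hu u2 u1 c1)
  rw [show g⁻¹ * j q * g * (g⁻¹ * j q * g) = g⁻¹ * (j q * j q) * g by group, ← map_mul, q2] at i1
  have e1 : u * (g⁻¹ * j z * g) = u * g⁻¹ * (j x)⁻¹ * g * u * (u * g⁻¹ * (j x)⁻¹ * g)⁻¹ := by
    have h1 := e x
    rw [hx, map_mul] at h1
    rw [← inv_mul_cancel_left (j x) (j z), ← h1]
    group
  have k1 := s.conj_K (hO _ _ hu u2 u1 (e1 ▸ s.inn_K hu i1)) hu
  rw [← e1, mul_mem_cancel_left hu] at k1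
  have zz : j z * j z = 1 := by rw [← map_mul, show z * z = 1 by decide +kernel, map_one]
  refine g1 (hO g _ k1 (by rw [show g⁻¹ * j z * g * (g⁻¹ * j z * g) = g⁻¹ * (j z * j z) * g by group, zz]; group)
    (fun c => ?_) ?_)
  · have : j z = j 1 := by rw [map_one]; simpa [mul_assoc] using congrArg (g * · * g⁻¹) c
    exact absurd (lf.inj this) (by decide +kernel)
  · simpa [mul_assoc] using s.inn_L (lf.mem z)

theorem St.red1 (m : MF A) (s : St A G) :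
    SylIn 2 (zpowers s.t) s.K ∧ ∃ g, g ∉ s.N ∧ s.Inn (g * s.t * g⁻¹) := by
  by_contra hc
  refine s.not_out m fun g u hu u2 u1 h => by_contra fun g1 => hc ?_
  have hN := s.inn_N h
  have s2 : g * u * g⁻¹ * (g * u * g⁻¹) = 1 := by rw [conj_mul, u2, mul_one, mul_inv_cancel]
  obtain ⟨s', e⟩ := s.exists_cj g
  obtain ⟨c, hc, c2, c1, cm⟩ := exists_fixed_inv s.tK s.tt s.t1 s2
    (H42.mem_normalizer_of_conj_mem fun k hk => s.conj_K hN hk)
  have p : Pair s s' c (g * u * g⁻¹) := ⟨⟨g, e⟩, fun c => g1 (H42.cj_eq_iff_mem_normalizer.1 (e ▸ c)), hc,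
    by rw [St.K, e, ← H42.cj_centralizer]; exact H42.conj_mem_cj hu, c2, c1, s2, by simpa using u1, cm⟩
  have sy := p.p4 m (p.symm.p3 m h) h
  obtain ⟨k, hk, ek⟩ := s.conj_t sy hu u2 u1
  refine ⟨sy, g * k⁻¹, fun c => g1 ((mul_mem_cancel_right (inv_mem (s.K_le hk))).1 c), ?_⟩
  rw [← ek]
  simpa [mul_assoc] using h

end Cfsg.Agent.WR
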