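import Cfsg.Agent.WR.Bas2
import Cfsg.Agent.BEND.Basic

set_option autoImplicit false
set_option linter.unusedSectionVars false

namespace Cfsg.Agent.WR

open Subgroup Cfsg.Agent.H78
open Cfsg.Agent.H42 (SylIn cj)

variable {G : Type*} [Group G] [Finite G] {c : Cf G} {Es Fs : Subgroup G}

namespace Split1

/-- averaging over an orbit of odd length -/
theorem avg {V S : Subgroup G} (hV : ∀ a ∈ V, ∀ b ∈ V, Commute a b)
    (hS : ∀ l ∈ S, ∀ v ∈ V, l * v * l⁻¹ ∈ V) {d t y : G} (hd : d ∈ V)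
    (ho : Odd ((centralizer {d}).relIndex S)) (yy : y * y = 1) (hy : ∀ v ∈ V, Commute v y)
    (hφ : ∀ l ∈ S, l * d * l⁻¹ * t * (l * d * l⁻¹)⁻¹ = t * y) :
    ∃ a ∈ V, a * t * a⁻¹ = t * y ∧ ∀ l ∈ S, l * a * l⁻¹ = a := by
  classical
  letI : CommGroup V := { (inferInstance : Group V) with
    mul_comm := fun a b => Subtype.ext (hV a a.2 b b.2).eq }
  haveI : Fintype V := Fintype.ofFinite V
  let O : Finset V := Finset.univ.filter fun x => ∃ l ∈ S, l * d * l⁻¹ = (x : G)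
  have hO : ∀ x : V, x ∈ O ↔ ∃ l ∈ S, l * d * l⁻¹ = (x : G) := fun x => by simp [O]
  have hcard : (centralizer {d}).relIndex S = O.card := by
    rw [BEND.relIndex_cent_eq S d {x | ∃ l ∈ S, l * d * l⁻¹ = x} (fun x => Iff.rfl)]
    rw [← Fintype.card_coe O, ← Nat.card_eq_fintype_card]
    refine Nat.card_congr ⟨fun x => ⟨⟨x.1, ?_⟩, (hO _).2 x.2⟩, fun x => ⟨x.1.1, (hO _).1 x.2⟩,
      fun _ => rfl, fun _ => rfl⟩
    obtain ⟨l, hl, e⟩ := x.2
    rw [← e]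
    exact hS l hl d hd
  have key : ∀ A : Finset V, (∀ x ∈ A, (x : G) * t * (x : G)⁻¹ = t * y) →
      ((∏ x ∈ A, x : V) : G) * t * ((∏ x ∈ A, x : V) : G)⁻¹ = t * y ^ A.card := by
    intro A
    induction A using Finset.induction_on with
    | empty => intro _; simp
    | insert x A hx ih =>
      intro hA
      rw [Finset.prod_insert hx, Finset.card_insert_of_notMem hx, Subgroup.coe_mul]
      have e1 := ih fun u hu => hA u (Finset.mem_insert_of_mem hu)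
      have e2 := hA x (Finset.mem_insert_self _ _)
      have e3 : (x : G) * y ^ A.card * (x : G)⁻¹ = y ^ A.card := by
        rw [((hy x x.2).pow_right _).eq, mul_inv_cancel_right]
      calc (x : G) * ((∏ x ∈ A, x : V) : G) * t * ((x : G) * ((∏ x ∈ A, x : V) : G))⁻¹
          = x * (((∏ x ∈ A, x : V) : G) * t * ((∏ x ∈ A, x : V) : G)⁻¹) * (x : G)⁻¹ := by group
        _ = (x * t * (x : G)⁻¹) * (x * y ^ A.card * (x : G)⁻¹) := by rw [e1]; group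
        _ = t * y ^ (A.card + 1) := by rw [e2, e3]; group
  refine ⟨((∏ x ∈ O, x : V) : G), Subtype.prop _, ?_, fun l hl => ?_⟩
  · rw [key O fun x hx => by
      obtain ⟨l, hl, e⟩ := (hO x).1 hx
      rw [← e]
      exact hφ l hl]
    rw [hcard] at ho
    obtain ⟨k, hk⟩ := ho
    rw [hk, pow_succ, pow_mul, pow_two, yy, one_pow, one_mul]
  · let θ : V →* V :=
      { toFun := fun v => ⟨l * v * l⁻¹, hS l hl v v.2⟩
        map_one' := Subtype.ext (by simp)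
        map_mul' := fun a b => Subtype.ext (by
          show l * (a * b) * l⁻¹ = l * a * l⁻¹ * (l * b * l⁻¹)
          group) }
    have hθ : ∀ v : V, (θ v : G) = l * v * l⁻¹ := fun _ => rfl
    have e : θ (∏ x ∈ O, x) = ∏ x ∈ O, x := by
      rw [map_prod]
      refine Finset.prod_bij (fun x _ => θ x) (fun x hx => ?_) (fun x _ x' _ e => ?_)
        (fun x hx => ?_) (fun _ _ => rfl)
      · obtain ⟨m, hm, e⟩ := (hO x).1 hx
        refine (hO _).2 ⟨l * m, S.mul_mem hl hm, ?_⟩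
        rw [hθ, ← e]
        group
      · have e' := congrArg Subtype.val e
        rw [hθ, hθ] at e'
        exact Subtype.ext (by simpa using e')
      · obtain ⟨m, hm, e⟩ := (hO x).1 hx
        refine ⟨⟨l⁻¹ * m * d * (l⁻¹ * m)⁻¹, hS _ (S.mul_mem (S.inv_mem hl) hm) d hd⟩,
          (hO _).2 ⟨l⁻¹ * m, S.mul_mem (S.inv_mem hl) hm, rfl⟩, Subtype.ext ?_⟩
        rw [hθ, ← e]
        show l * (l⁻¹ * m * d * (l⁻¹ * m)⁻¹) * l⁻¹ = _
        group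
    rw [← hθ, e]

theorem f1 : ∀ w : T, w ∈ E → w ∈ F → w * (σ * w * σ⁻¹) = 1 → w = 1 ∨ w = z := by decide +kernel
theorem f2 : σ * σ = 1 ∧ w0 ∈ E ∧ w0 ∈ F ∧ z * (σ * w0 * σ⁻¹) = w0 ∧ σ * z * σ⁻¹ = z ∧ z ∈ W ∧
    e2 ∈ E ∧ WR.f1 ∈ F ∧ z * z = 1 ∧ z ≠ 1 := by decide +kernel
theorem f3 : a1 z ∈ E ∧ a1 (a1 z) ∈ E ∧ a1 (a1 (a1 z)) = z ∧ z * a1 z * a1 (a1 z) = 1 ∧
    z * a1 z = a1 (a1 z) := by decide +kernel
theorem f4 : ∀ e : T, e ∈ E → a1 e = e → e = 1 := by decide +kernel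

theorem nrm {D : Subgroup T} {R : Subgroup G} (h : S1 c D R) {g : G} (hg : Commute g c.t)
    (hN : Nm c.ι D g) {q : G} (hq : q ∈ R) : g * q * g⁻¹ ∈ R :=
  h.norm g ⟨1, D.one_mem, by rw [hg.eq, map_one, mul_one, mul_inv_cancel_right]⟩ hN q hq

theorem φmul {D : Subgroup T} {R : Subgroup G} (h : S1 c D R) {q q' : G} (hq : q ∈ R) {e e' : T}
    (he' : e' ∈ D) (h1 : q * c.t * q⁻¹ = c.t * c.ι e) (h2 : q' * c.t * q'⁻¹ = c.t * c.ι e') :
    q * q' * c.t * (q * q')⁻¹ = c.t * c.ι (e * e') := by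
  have e3 : q * c.ι e' * q⁻¹ = c.ι e' := by
    rw [(h.comm q hq _ (h.DR e' he')).eq, mul_inv_cancel_right]
  calc q * q' * c.t * (q * q')⁻¹ = q * (q' * c.t * q'⁻¹) * q⁻¹ := by group
    _ = (q * c.t * q⁻¹) * (q * c.ι e' * q⁻¹) := by rw [h2]; group
    _ = _ := by rw [h1, e3, map_mul]; group

theorem φconj {g q : G} (hg : Commute g c.t) {x y : G} (h1 : q * c.t * q⁻¹ = c.t * x)
    (h2 : g * x * g⁻¹ = y) : g * q * g⁻¹ * c.t * (g * q * g⁻¹)⁻¹ = c.t * y := by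
  have e1 : g⁻¹ * c.t * g = c.t := by rw [hg.inv_left.eq, inv_mul_cancel_right]
  have e2 : g * c.t * g⁻¹ = c.t := by rw [hg.eq, mul_inv_cancel_right]
  calc g * q * g⁻¹ * c.t * (g * q * g⁻¹)⁻¹ = g * (q * (g⁻¹ * c.t * g) * q⁻¹) * g⁻¹ := by group
    _ = (g * c.t * g⁻¹) * (g * x * g⁻¹) := by rw [e1, h1]; group
    _ = _ := by rw [e2, h2]

/-- an element of `E*` over `z` centralised by `T` -/
theorem exists_d (h : Sx c Es Fs) :
    ∃ d ∈ Es, d * c.t * d⁻¹ = c.t * c.ι z ∧ ∀ x, Commute (c.ι x) d := by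
  obtain ⟨σσ, wE, wF, zw, σz, zW, eE, fF, -, -⟩ := f2
  have main : ∀ d ∈ Es, d ∈ Fs → Commute (c.ι σ) d → ∀ x, Commute (c.ι x) d := by
    intro d h1 h2 h3 x
    have : x ∈ (centralizer {d}).comap c.ι := by
      refine gen3 ?_ ?_ ?_ x <;> rw [mem_comap, mem_centralizer_singleton_iff]
      · exact (h.e.comm _ (h.e.DR _ eE) d h1).eq
      · exact (h.f.comm _ (h.f.DR _ fF) d h2).eq
      · exact h3.eq
    rw [mem_comap, mem_centralizer_singleton_iff] at this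
    exact this
  obtain ⟨d, ⟨h1, h2⟩, hφ⟩ := h.ontoW z zW
  have hσ := c.ιt σ
  have n1 : c.ι σ * d * (c.ι σ)⁻¹ ∈ Es := nrm h.e hσ (c.toGF.nE (c.toGF.ι_mem σ)) h1
  have n2 : c.ι σ * d * (c.ι σ)⁻¹ ∈ Fs := nrm h.f hσ (Act.nm_ι c.toGF σ) h2
  have hφ' := φconj hσ hφ (y := c.ι z) (by rw [← map_inv, ← map_mul, ← map_mul, σz])
  have hc : Commute (d⁻¹ * (c.ι σ * d * (c.ι σ)⁻¹)) c.t := by
    rw [← hφ] at hφ'
    generalize c.ι σ * d * (c.ι σ)⁻¹ = d' at hφ'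
    show d⁻¹ * d' * c.t = c.t * (d⁻¹ * d')
    calc d⁻¹ * d' * c.t = d⁻¹ * (d' * c.t * d'⁻¹) * d' := by group
      _ = _ := by rw [hφ']; group
  obtain ⟨w, hw, e1⟩ := h.e.ker _ (Es.mul_mem (Es.inv_mem h1) n1) hc
  obtain ⟨w', hw', e2⟩ := h.f.ker _ (Fs.mul_mem (Fs.inv_mem h2) n2) hc
  obtain rfl : w = w' := c.inj (e1.symm.trans e2)
  have e3 : c.ι σ * d * (c.ι σ)⁻¹ = d * c.ι w := by rw [← e1]; group
  have e4 : w * (σ * w * σ⁻¹) = 1 := by
    apply c.inj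
    have s2 : c.ι σ * c.ι σ = 1 := by rw [← map_mul, σσ, map_one]
    have e5 : c.ι σ * (c.ι σ * d * (c.ι σ)⁻¹) * (c.ι σ)⁻¹ = d := by
      calc c.ι σ * (c.ι σ * d * (c.ι σ)⁻¹) * (c.ι σ)⁻¹
          = (c.ι σ * c.ι σ) * d * (c.ι σ * c.ι σ)⁻¹ := by group
        _ = d := by rw [s2]; group
    have e6 : c.ι σ * (d * c.ι w) * (c.ι σ)⁻¹ =
        (c.ι σ * d * (c.ι σ)⁻¹) * (c.ι σ * c.ι w * (c.ι σ)⁻¹) := by group
    rw [e3, e6, e3, mul_assoc, mul_eq_left] at e5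
    rw [map_mul, map_mul, map_mul, map_inv, map_one]
    exact e5
  rcases f1 w hw hw' e4 with rfl | rfl
  · rw [map_one, mul_one] at e3
    exact ⟨d, h1, hφ, main d h1 h2 (mul_inv_eq_iff_eq_mul.1 e3)⟩
  · have m1 := Es.mul_mem h1 (h.e.DR _ wE)
    refine ⟨d * c.ι w0, m1, ?_, main _ m1 (Fs.mul_mem h2 (h.f.DR _ wF)) ?_⟩
    · have := φmul h.e h1 (q' := c.ι w0) E.one_mem hφ
        (by rw [(c.ιt w0).eq, map_one, mul_one, mul_inv_cancel_right])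
      rwa [mul_one] at this
    · refine mul_inv_eq_iff_eq_mul.1 ?_
      calc c.ι σ * (d * c.ι w0) * (c.ι σ)⁻¹
          = (c.ι σ * d * (c.ι σ)⁻¹) * (c.ι σ * c.ι w0 * (c.ι σ)⁻¹) := by group
        _ = d * c.ι (z * (σ * w0 * σ⁻¹)) := by
          rw [e3, map_mul, map_mul, map_mul, map_inv]; group
        _ = _ := by rw [zw]

/-- an element of `E*` over `z` centralised by the stabiliser of `z` -/
theorem exists_a (h : Sx c Es Fs) :
    ∃ a ∈ Es, a * c.t * a⁻¹ = c.t * c.ι z ∧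
      ∀ l ∈ c.Λ, l * c.ι z * l⁻¹ = c.ι z → l * a * l⁻¹ = a := by
  obtain ⟨d, h1, hφ, hc⟩ := exists_d h
  have zz : c.ι z * c.ι z = 1 := by rw [← map_mul, f2.2.2.2.2.2.2.2.2.1, map_one]
  have hz : ∀ l, l ∈ centralizer {c.ι z} ↔ l * c.ι z * l⁻¹ = c.ι z := fun l => by
    rw [mem_centralizer_singleton_iff, mul_inv_eq_iff_eq_mul]
  obtain ⟨a, ha, e1, e2⟩ := avg (V := Es) (S := c.Λ ⊓ centralizer {c.ι z}) (t := c.t) h.e.comm
    (fun l hl v hv => nrm h.e (c.Lt l hl.1) (c.toGF.nE hl.1) hv) h1 (by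
      have l1 : c.ι.range ≤ centralizer {d} ⊓ (c.Λ ⊓ centralizer {c.ι z}) := by
        rintro _ ⟨x, rfl⟩
        refine ⟨mem_centralizer_singleton_iff.2 (hc x).eq, c.toGF.ι_mem x,
          mem_centralizer_singleton_iff.2 ?_⟩
        rw [← map_mul, ← map_mul, (mem_center z).2 (Or.inr rfl) x]
      have ho := c.Lodd
      rw [← relIndex_mul_relIndex _ _ _ l1 (inf_le_right.trans inf_le_left),
        ← relIndex_mul_relIndex _ _ _ (inf_le_right (a := centralizer {d})) inf_le_left,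
        inf_relIndex_right] at ho
      exact (Nat.odd_mul.1 (Nat.odd_mul.1 ho).2).1) zz
    (fun v hv => h.e.comm v hv _ (h.e.DR z Act.zE))
    (fun l hl => φconj (c.Lt l hl.1) hφ ((hz l).1 hl.2))
  exact ⟨a, ha, e1, fun l hl e => e2 l ⟨hl, (hz l).2 e⟩⟩

end Split1

open Split1

theorem Sx.exists_sp (h : Sx c Es Fs) : ∃ s, Sp c Es s := by
  classical
  obtain ⟨a, ha, hφ, hfix⟩ := exists_a h
  have z1 : z ≠ 1 := f2.2.2.2.2.2.2.2.2.2
  have ex : ∀ e : T, ∃ x : G, (e = 1 → x = 1) ∧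
      (e ∈ E → ∀ l ∈ c.Λ, l * c.ι e * l⁻¹ = c.ι z → x = l⁻¹ * a * l) := by
    intro e
    by_cases he : e ∈ E ∧ e ≠ 1
    · obtain ⟨m, hm, e1⟩ := c.toGF.tr1 he.1 he.2
      refine ⟨m⁻¹ * a * m, fun e0 => absurd e0 he.2, fun _ l hl e2 => ?_⟩
      have e3 := hfix (l * m⁻¹) (c.Λ.mul_mem hl (c.Λ.inv_mem hm)) (by
        calc l * m⁻¹ * c.ι z * (l * m⁻¹)⁻¹
            = l * m⁻¹ * (m * c.ι e * m⁻¹) * (l * m⁻¹)⁻¹ := by rw [e1]
          _ = l * c.ι e * l⁻¹ := by group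
          _ = _ := e2)
      calc m⁻¹ * a * m = l⁻¹ * (l * m⁻¹ * a * (l * m⁻¹)⁻¹) * l := by group
        _ = _ := by rw [e3]
    · refine ⟨1, fun _ => rfl, fun hE l _ e2 => ?_⟩
      have : e = 1 := by
        by_contra h1
        exact he ⟨hE, h1⟩
      rw [this, map_one, mul_one, mul_inv_cancel, ← map_one c.ι] at e2
      exact absurd (c.inj e2).symm z1
  choose s s1 hs using ex
  have s1' : s 1 = 1 := s1 1 rfl
  have mem : ∀ e ∈ E, s e ∈ Es := by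
    intro e he
    by_cases h1 : e = 1
    · rw [s1 e h1]; exact Es.one_mem
    obtain ⟨m, hm, e1⟩ := c.toGF.tr1 he h1
    rw [hs e he m hm e1]
    have := nrm h.e (c.Lt _ (c.Λ.inv_mem hm)) (c.toGF.nE (c.Λ.inv_mem hm)) ha
    rwa [inv_inv] at this
  have φ : ∀ e ∈ E, s e * c.t * (s e)⁻¹ = c.t * c.ι e := by
    intro e he
    by_cases h1 : e = 1
    · rw [s1 e h1, h1]; simp
    obtain ⟨m, hm, e1⟩ := c.toGF.tr1 he h1
    rw [hs e he m hm e1]
    have := φconj (c.Lt _ (c.Λ.inv_mem hm)) hφ (y := c.ι e) (by rw [← e1]; group)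
    rwa [inv_inv] at this
  have eqv : ∀ l ∈ c.Λ, ∀ e ∈ E, ∀ e' ∈ E, l * c.ι e * l⁻¹ = c.ι e' → l * s e * l⁻¹ = s e' := by
    intro l hl e he e' he' e0
    by_cases h1 : e' = 1
    · have : e = 1 := by
        apply c.inj
        rw [h1, map_one] at e0
        rw [map_one]
        simpa using e0
      rw [s1 e this, s1 e' h1]
      group
    obtain ⟨m, hm, e1⟩ := c.toGF.tr1 he' h1
    rw [hs e' he' m hm e1, hs e he (m * l) (c.Λ.mul_mem hm hl) (by rw [← e1, ← e0]; group)]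
    group
  obtain ⟨g1, g2, g3, g4, g5⟩ := f3
  have base : s (z * a1 z) = s z * s (a1 z) := by
    have m1 := mem z Act.zE
    have m2 := mem _ g1
    have m3 := mem _ g2
    have hN := φmul h.e (Es.mul_mem m1 m2) g2 (φmul h.e m1 g1 (φ z Act.zE) (φ _ g1)) (φ _ g2)
    rw [g4, map_one, mul_one] at hN
    obtain ⟨e, he, e1⟩ := h.e.ker _ (Es.mul_mem (Es.mul_mem m1 m2) m3) (mul_inv_eq_iff_eq_mul.1 hN)
    have c1 := eqv _ c.toGF.h1_mem z Act.zE _ g1 (c.c1 _ (Act.EP _ Act.zE))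
    have c2 := eqv _ c.toGF.h1_mem _ g1 _ g2 (c.c1 _ (Act.EP _ g1))
    have c3 := eqv _ c.toGF.h1_mem _ g2 _ Act.zE (by rw [c.c1 _ (Act.EP _ g2), g3])
    have e2 : c.ι (a1 e) = c.ι e := by
      rw [← c.c1 e (Act.EP e he), ← e1]
      calc c.h1 * (s z * s (a1 z) * s (a1 (a1 z))) * c.h1⁻¹
          = (c.h1 * s z * c.h1⁻¹) * (c.h1 * s (a1 z) * c.h1⁻¹) *
            (c.h1 * s (a1 (a1 z)) * c.h1⁻¹) := by group
        _ = s (a1 z) * s (a1 (a1 z)) * s z := by rw [c1, c2, c3]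
        _ = _ := by rw [(h.e.comm _ (Es.mul_mem m2 m3) _ m1).eq, mul_assoc]
    rw [f4 e he (c.inj e2), map_one] at e1
    rw [g5, eq_inv_of_mul_eq_one_left e1, inv_eq_of_mul_eq_one_right (h.e.sq _ m3)]
  refine ⟨s, mem, fun e he e' he' => ?_, φ, eqv⟩
  by_cases h1 : e = 1
  · rw [h1, s1', one_mul, one_mul]
  by_cases h2 : e' = 1
  · rw [h2, s1', mul_one, mul_one]
  by_cases h3 : e = e'
  · rw [← h3, (E_facts e he).1, s1', h.e.sq _ (mem e he)]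
  obtain ⟨l, hl, e1, e2⟩ := c.toGF.tr2 he he' h1 h2 h3
  have c1 := eqv l hl e he z Act.zE e1
  have c2 := eqv l hl e' he' _ g1 e2
  have c3 := eqv l hl _ (E.mul_mem he he') _ (E.mul_mem Act.zE g1) (by
    rw [map_mul, map_mul, ← e1, ← e2]; group)
  rw [base, ← c1, ← c2] at c3
  calc s (e * e') = l⁻¹ * (l * s (e * e') * l⁻¹) * l := by group
    _ = _ := by rw [c3]; group

end Cfsg.Agent.WR
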