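import Cfsg.Agent.WR.Defs
import Cfsg.Agent.H51.ElemRep
import Mathlib.LinearAlgebra.Matrix.GeneralLinearGroup.Card

/-! Project WR: small generic lemmas. -/

set_option autoImplicit false

namespace Cfsg.Agent.WR

open Subgroup Cfsg.Agent.H78
open Cfsg.Agent.H42 (SylIn cj)

variable {G : Type*} [Group G] [Finite G]

/-- 2-elements of a group that is a 2-group modulo a central subgroup of odd order -/
theorem two_mul {U Z : Subgroup G} (hZ : ∀ o ∈ Z, Odd (orderOf o) ∧ ∀ u ∈ U, Commute o u)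
    (h : ∀ u ∈ U, ∃ k, u ^ 2 ^ k ∈ Z) {a b : G} (ha : a ∈ U) (hb : b ∈ U) {i j : ℕ}
    (h1 : a ^ 2 ^ i = 1) (h2 : b ^ 2 ^ j = 1) : ∃ k, (a * b) ^ 2 ^ k = 1 := by
  have : Fact (Nat.Prime 2) := ⟨Nat.prime_two⟩
  have hq : IsPGroup 2 (U ⧸ center U) := fun x => by
    obtain ⟨u, rfl⟩ := QuotientGroup.mk_surjective x
    obtain ⟨k, hk⟩ := h u u.2
    refine ⟨k, ?_⟩
    rw [← QuotientGroup.mk_pow, QuotientGroup.eq_one_iff, mem_center_iff]
    intro g
    exact Subtype.ext ((hZ _ hk).2 g g.2).symm.eq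
  have : Group.IsNilpotent U := Group.of_quotient_center_nilpotent hq.isNilpotent
  have hz : ∀ (u : U) (k : ℕ), (u : G) ^ 2 ^ k = 1 → ∃ P : Sylow 2 U, u ∈ (P : Subgroup U) :=
    fun u k hk => by
      have : IsPGroup 2 (zpowers u) := by
        obtain ⟨n, -, hn⟩ := (Nat.dvd_prime_pow Nat.prime_two).1
          (orderOf_dvd_of_pow_eq_one (x := u) (n := 2 ^ k) (Subtype.ext hk))
        exact IsPGroup.of_card (n := n) (by rw [Nat.card_zpowers, hn])
      obtain ⟨P, hP⟩ := this.exists_le_sylow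
      exact ⟨P, hP (mem_zpowers u)⟩
  obtain ⟨P, hP⟩ := hz ⟨a, ha⟩ i h1
  obtain ⟨Q, hQ⟩ := hz ⟨b, hb⟩ j h2
  have h03 : Group.IsNilpotent U ↔ ∀ (p : ℕ) (_ : Fact p.Prime) (P : Sylow p U),
      (P : Subgroup U).Normal := (Group.isNilpotent_of_finite_tfae (G := U)).out 0 3
  have hn : (P : Subgroup U).Normal := h03.1 this 2 ‹_› P
  have := Sylow.unique_of_normal P hn
  obtain rfl : P = Q := Subsingleton.elim _ _
  obtain ⟨k, hk⟩ := P.isPGroup' ⟨_, mul_mem hP hQ⟩
  exact ⟨k, congrArg (fun x : (P : Subgroup U) => ((x : U) : G)) hk⟩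

omit [Finite G] in
theorem eq_one_of_odd {o : G} (h : Odd (orderOf o)) {k : ℕ} (h2 : o ^ 2 ^ k = 1) : o = 1 :=
  orderOf_eq_one_iff.1 ((h.coprime_two_right.pow_right k).eq_one_of_dvd (orderOf_dvd_of_pow_eq_one h2))

omit [Finite G] in
theorem two_unique {a b o : G} (h : Odd (orderOf o)) (hc : Commute o b) {i j : ℕ}
    (h1 : a ^ 2 ^ i = 1) (h2 : b ^ 2 ^ j = 1) (e : a = b * o) : a = b := by
  have k : o ^ 2 ^ (i + j) = 1 := by
    have : a ^ 2 ^ (i + j) = 1 := by rw [pow_add, pow_mul, h1, one_pow]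
    rwa [e, hc.symm.mul_pow, add_comm, pow_add, pow_mul, h2, one_pow, one_mul, ← pow_add,
      add_comm] at this
  rw [e, eq_one_of_odd h k, mul_one]

/-- the 2-part and the odd part of an element -/
theorem exists_parts (g : G) : ∃ a o : G, ∃ k : ℕ, a ∈ zpowers g ∧ o ∈ zpowers g ∧ a ^ 2 ^ k = 1 ∧
    Odd (orderOf o) ∧ g = a * o ∧ ∃ m, Odd m ∧ a = g ^ m := by
  obtain ⟨k, m, hm, e⟩ := Nat.exists_eq_two_pow_mul_odd (orderOf_pos g).ne'
  obtain ⟨u, h1, h2⟩ := Nat.chineseRemainder (hm.coprime_two_left.pow_left (k + 1)) 1 0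
  have h3 : u ≡ 1 [MOD 2 ^ k] := h1.of_dvd (pow_dvd_pow 2 k.le_succ)
  have h4 : u ≡ 1 [MOD 2] := h1.of_dvd (dvd_pow_self 2 k.succ_ne_zero)
  have h5 : m ∣ u := (Nat.modEq_zero_iff_dvd).1 h2
  refine ⟨g ^ u, (g ^ u)⁻¹ * g, k, pow_mem (mem_zpowers g) u,
    mul_mem (inv_mem (pow_mem (mem_zpowers g) u)) (mem_zpowers g), ?_, ?_, by group, u,
    Nat.odd_iff.2 h4, rfl⟩
  · rw [← pow_mul, ← orderOf_dvd_iff_pow_eq_one, e, mul_comm]
    exact Nat.mul_dvd_mul_right h5 _
  · refine hm.of_dvd_nat (orderOf_dvd_of_pow_eq_one ?_)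
    rw [(Commute.refl g).pow_left u |>.inv_left.mul_pow, inv_pow, ← pow_mul, inv_mul_eq_one,
      pow_eq_pow_iff_modEq, e]
    simpa using h3.mul_right' m

omit [Finite G] in
theorem mem_of_sq_mem {K : Subgroup G} {g : G} (h : Odd (orderOf g)) (h2 : g * g ∈ K) : g ∈ K := by
  obtain ⟨r, hr⟩ := h
  have : g = (g * g) ^ (r + 1) := by
    rw [← sq, ← pow_mul, show 2 * (r + 1) = orderOf g + 1 by omega, pow_succ, pow_orderOf_eq_one,
      one_mul]
  rw [this]
  exact pow_mem h2 _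

theorem not_dvd_aut {V : Type*} [Group V] [Finite V] (sq : ∀ a : V, a * a = 1) (h : Nat.card V = 16) :
    ¬ 128 ∣ Nat.card (MulAut V) := by
  have cm : ∀ a b : V, a * b = b * a := fun a b => by
    rw [← inv_eq_of_mul_eq_one_right (sq (a * b)), mul_inv_rev, inv_eq_of_mul_eq_one_right (sq a),
      inv_eq_of_mul_eq_one_right (sq b)]
  obtain ⟨n, -, ρ, h1, -, h2, -⟩ := H51.exists_matrix_rep V 2 cm fun a => (pow_two a).trans (sq a)
  obtain rfl : 4 = n := Nat.pow_right_injective le_rfl (h.symm.trans h1)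
  have := card_dvd_of_injective (H := GL (Fin 4) (ZMod 2)) ρ.toHomUnits fun a b e =>
    h2 (congrArg Units.val e)
  rw [Matrix.card_GL_field] at this
  have k : Nat.card (MulAut V) ∣ 20160 := by simpa [Fin.prod_univ_succ] using this
  exact fun d => absurd (d.trans k) (by norm_num)

/-- an involution normalising a subgroup of even order centralises an involution of it -/
theorem exists_fixed_inv {K : Subgroup G} {t c : G} (ht : t ∈ K) (t2 : t * t = 1) (t1 : t ≠ 1)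
    (c2 : c * c = 1) (hc : c ∈ normalizer (K : Set G)) : ∃ u ∈ K, u * u = 1 ∧ u ≠ 1 ∧ Commute u c := by
  classical
  have : Fact (Nat.Prime 2) := ⟨Nat.prime_two⟩
  have := Fintype.ofFinite K
  have ci : c⁻¹ = c := inv_eq_of_mul_eq_one_right c2
  have k : ∀ u : G, u ∈ K ∧ u * u = 1 → c * u * c⁻¹ ∈ K ∧ c * u * c⁻¹ * (c * u * c⁻¹) = 1 :=
    fun u hu => ⟨H42.conj_mem_of_mem_normalizer hc hu.1, by
      rw [show c * u * c⁻¹ * (c * u * c⁻¹) = c * (u * u) * c⁻¹ by group, hu.2]; group⟩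
  let X := {u : G // u ∈ K ∧ u * u = 1}
  have := Fintype.ofFinite X
  have inv : Function.Involutive fun u : X => (⟨_, k u u.2⟩ : X) := fun u => Subtype.ext (by
    show c * (c * u * c⁻¹) * c⁻¹ = u
    rw [show c * (c * u * c⁻¹) * c⁻¹ = c * c * u * (c * c)⁻¹ by group, c2]; group)
  have hX : 2 ∣ Fintype.card X := by
    have e : X ≃ {u : K // u ^ 2 = 1} :=
      { toFun := fun u => ⟨⟨u, u.2.1⟩, Subtype.ext ((pow_two _).trans u.2.2)⟩
        invFun := fun u => ⟨u.1, u.1.2, (pow_two _).symm.trans (congrArg Subtype.val u.2)⟩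
        left_inv := fun _ => rfl
        right_inv := fun _ => rfl }
    have h2 : 2 ∣ Fintype.card K := by
      have := orderOf_dvd_card (x := (⟨t, ht⟩ : K))
      rwa [orderOf_eq_prime (p := 2) (Subtype.ext ((pow_two _).trans t2))
        (fun e => t1 (congrArg Subtype.val e))] at this
    -- the elements with `u * u ≠ 1` come in pairs
    have h3 : 2 ∣ Fintype.card {u : K // ¬ u ^ 2 = 1} := by
      have i2 : Function.Involutive fun u : {u : K // ¬ u ^ 2 = 1} =>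
          (⟨u.1⁻¹, by simpa using u.2⟩ : {u : K // ¬ u ^ 2 = 1}) := fun u => Subtype.ext (inv_inv _)
      by_contra h3
      obtain ⟨u, hu⟩ := Equiv.Perm.exists_fixed_point_of_prime (n := 1) h3 (σ := i2.toPerm)
        (Equiv.ext fun x => i2 x)
      exact u.2 (by
        have : u.1⁻¹ = u.1 := congrArg Subtype.val hu
        rw [pow_two]; nth_rw 1 [← this]; exact inv_mul_cancel _)
    rw [Fintype.card_congr e]
    rw [Fintype.card_subtype_compl] at h3
    have := Fintype.card_subtype_le fun u : K => u ^ 2 = 1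
    omega
  obtain ⟨u, hu, h1⟩ := Equiv.Perm.exists_fixed_point_of_prime' (n := 1) hX (σ := inv.toPerm)
    (Equiv.ext fun x => inv x) (a := ⟨1, one_mem _, mul_one _⟩) (Subtype.ext (by
      show c * 1 * c⁻¹ = 1
      group))
  refine ⟨u, u.2.1, u.2.2, fun e => h1 (Subtype.ext e), ?_⟩
  have : c * u * c⁻¹ = u := congrArg Subtype.val hu
  exact (mul_inv_eq_iff_eq_mul.1 this).symm

end Cfsg.Agent.WR
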