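import Cfsg.Agent.WR.Util
import Cfsg.Agent.BEND.Basic

/-! Project WR: the 2-group of order `2⁹` over `⟨t⟩ × D`. -/

set_option autoImplicit false
set_option maxRecDepth 100000
set_option linter.unusedSectionVars false

namespace Cfsg.Agent.WR

open Subgroup Cfsg.Agent.H78 Cfsg.Agent.H14
open Cfsg.Agent.H42 (SylIn cj)

variable {G : Type*} [Group G] [Finite G] {c : Cf G} {D : Subgroup T}

namespace Dbl

theorem facts (h : D = E ∨ D = F) : (∀ e ∈ D, e * e = 1) ∧ (∀ x, ∀ e ∈ D, x * e * x⁻¹ ∈ D) ∧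
    (∀ e ∈ D, ∀ e' ∈ D, e * e' = e' * e) ∧ Nat.card D = 16 ∧ z ∈ D ∧
    ∀ x, (∀ e ∈ D, e * x = x * e) → x ∈ D := by
  rcases h with rfl | rfl
  · exact ⟨opEF.sq, opEF.nm, opEF.cm, card_E, by decide +kernel, by decide +kernel⟩
  · exact ⟨opEF.sq', opEF.nm', opEF.cm', card_F, by decide +kernel, by decide +kernel⟩

theorem z_ne : z ≠ 1 := by decide +kernel

theorem mem_B {x : G} : x ∈ zpowers c.t ⊔ D.map c.ι ↔ ∃ e ∈ D, x = c.ι e ∨ x = c.t * c.ι e := by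
  let K : Subgroup G :=
    { carrier := {x | ∃ e ∈ D, x = c.ι e ∨ x = c.t * c.ι e}
      one_mem' := ⟨1, one_mem _, Or.inl (map_one _).symm⟩
      mul_mem' := by
        rintro _ _ ⟨e, he, rfl | rfl⟩ ⟨e', he', rfl | rfl⟩
        · exact ⟨_, mul_mem he he', Or.inl (map_mul _ _ _).symm⟩
        · exact ⟨_, mul_mem he he', Or.inr (by
            rw [map_mul, ← mul_assoc, (c.ιt e).eq, mul_assoc])⟩
        · exact ⟨_, mul_mem he he', Or.inr (by rw [map_mul, mul_assoc])⟩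
        · exact ⟨_, mul_mem he he', Or.inl (by
            rw [map_mul, mul_assoc, ← mul_assoc (c.ι e), (c.ιt e).eq, ← mul_assoc, ← mul_assoc,
              c.tt, one_mul])⟩
      inv_mem' := by
        rintro _ ⟨e, he, rfl | rfl⟩
        · exact ⟨_, inv_mem he, Or.inl (map_inv _ _).symm⟩
        · exact ⟨_, inv_mem he, Or.inr (by
            rw [mul_inv_rev, inv_eq_of_mul_eq_one_right c.tt, ← map_inv, (c.ιt _).eq])⟩ }
  constructor
  · intro hx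
    refine (show zpowers c.t ⊔ D.map c.ι ≤ K from sup_le ?_ ?_) hx
    · exact zpowers_le.2 ⟨1, one_mem _, Or.inr (by rw [map_one, mul_one])⟩
    · rintro _ ⟨e, he, rfl⟩
      exact ⟨e, he, Or.inl rfl⟩
  · rintro ⟨e, he, rfl | rfl⟩
    · exact mem_sup_right (mem_map_of_mem _ he)
    · exact mul_mem (mem_sup_left (mem_zpowers _)) (mem_sup_right (mem_map_of_mem _ he))

theorem tι_sq {e : T} (h : e * e = 1) : c.t * c.ι e * (c.t * c.ι e) = 1 := by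
  rw [mul_assoc, ← mul_assoc (c.ι e), (c.ιt e).eq, ← mul_assoc, ← mul_assoc, c.tt, one_mul,
    ← map_mul, h, map_one]

theorem ι_sq {e : T} (h : e * e = 1) : c.ι e * c.ι e = 1 := by rw [← map_mul, h, map_one]

theorem card_B (h : Nat.card D = 16) : 32 ≤ Nat.card ↥(zpowers c.t ⊔ D.map c.ι) := by
  let f : D × Bool → ↥(zpowers c.t ⊔ D.map c.ι) := fun p =>
    ⟨if p.2 then c.t * c.ι p.1 else c.ι p.1, mem_B.2 ⟨p.1, p.1.2, by cases p.2 <;> simp⟩⟩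
  have hf : Function.Injective f := by
    rintro ⟨e, b⟩ ⟨e', b'⟩ k
    have k := congrArg Subtype.val k
    cases b <;> cases b' <;> simp only [f, if_true, Bool.false_eq_true, if_false] at k
    · rw [Subtype.ext (c.inj k)]
    · exact absurd k.symm (t_ne _ _)
    · exact absurd k (t_ne _ _)
    · rw [Subtype.ext (c.inj (mul_left_cancel k))]
  have := Nat.card_le_card_of_injective f hf
  rwa [Nat.card_prod, h, Nat.card_eq_fintype_card, Fintype.card_bool] at this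

theorem nm_inv {g : G} (h : Nm c.ι D g) : Nm c.ι D g⁻¹ := nm_iff.2 (inv_mem (nm_iff.1 h))

theorem nm_mul {g g' : G} (h : Nm c.ι D g) (h' : Nm c.ι D g') : Nm c.ι D (g * g') :=
  nm_iff.2 (mul_mem (nm_iff.1 h) (nm_iff.1 h'))

theorem nm_of_comm {g : G} (h : ∀ e ∈ D, Commute g (c.ι e)) : Nm c.ι D g := fun e he =>
  ⟨e, he, by rw [(h e he).eq, mul_inv_cancel_right]⟩

variable (c D) in
/-- the normaliser of `⟨t⟩ × D` -/
def Nn : Subgroup G where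
  carrier := {g | Nm c.ι D g ∧ ∃ e ∈ D, g * c.t * g⁻¹ = c.t * c.ι e}
  one_mem' := ⟨nm_of_comm fun _ _ => Commute.one_left _, 1, one_mem _, φ_one (Commute.one_left _)⟩
  mul_mem' := by
    rintro a b ⟨ha, e, he, k⟩ ⟨hb, e', he', k'⟩
    obtain ⟨e'', he'', l⟩ := ha e' he'
    refine ⟨nm_mul ha hb, e * e'', mul_mem he he'', ?_⟩
    calc _ = a * (b * c.t * b⁻¹) * a⁻¹ := by group
      _ = a * c.t * a⁻¹ * (a * c.ι e' * a⁻¹) := by rw [k']; group
      _ = _ := by rw [k, l, map_mul, mul_assoc]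
  inv_mem' := by
    rintro a ⟨ha, e, he, k⟩
    obtain ⟨e', he', l⟩ := nm_inv ha e he
    refine ⟨nm_inv ha, e'⁻¹, inv_mem he', ?_⟩
    rw [map_inv, ← l, eq_mul_inv_iff_mul_eq]
    calc _ = a⁻¹ * (c.t * c.ι e) * a := by group
      _ = _ := by rw [← k]; group

theorem mem_Nn_of_comm {g : G} (h : Commute g c.t) (h' : Nm c.ι D g) : g ∈ Nn c D :=
  ⟨h', 1, one_mem _, φ_one h⟩

theorem Nn_B {g : G} (hg : g ∈ Nn c D) {b : G} (hb : b ∈ zpowers c.t ⊔ D.map c.ι) :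
    g * b * g⁻¹ ∈ zpowers c.t ⊔ D.map c.ι := by
  obtain ⟨ha, e, he, k⟩ := hg
  obtain ⟨e', he', rfl | rfl⟩ := mem_B.1 hb
  · obtain ⟨e'', he'', l⟩ := ha e' he'
    exact mem_B.2 ⟨e'', he'', Or.inl l⟩
  · obtain ⟨e'', he'', l⟩ := ha e' he'
    refine mem_B.2 ⟨e * e'', mul_mem he he'', Or.inr ?_⟩
    rw [map_mul, ← mul_assoc c.t, ← k, ← l]; group

theorem conj_t_mem {g : G} (h : g * c.t * g⁻¹ ∈ zpowers c.t ⊔ D.map c.ι) :
    ∃ e ∈ D, g * c.t * g⁻¹ = c.t * c.ι e := by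
  obtain ⟨e, he, k | k⟩ := mem_B.1 h
  · exact absurd (isConj_iff.2 ⟨g, k⟩) (c.not_conj e)
  · exact ⟨e, he, k⟩

theorem mem_Nn (sq : ∀ e ∈ D, e * e = 1) {g : G}
    (h : ∀ b ∈ zpowers c.t ⊔ D.map c.ι, g * b * g⁻¹ ∈ zpowers c.t ⊔ D.map c.ι) : g ∈ Nn c D := by
  refine ⟨fun e he => ?_, conj_t_mem (h _ (mem_sup_left (mem_zpowers _)))⟩
  obtain ⟨e', he', k | k⟩ := mem_B.1 (h _ (mem_sup_right (mem_map_of_mem _ he)))
  · exact ⟨e', he', k⟩
  · exact absurd ((c.conj_t (sq e' he')).trans (isConj_iff.2 ⟨g, k⟩).symm) (c.not_conj e)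

/-- the normaliser moves `t` -/
theorem moves (h : Dd c D) : ∃ n ∈ Nn c D, ¬ Commute n c.t := by
  obtain ⟨sq, -, -, cD, zD, -⟩ := facts h.or
  obtain ⟨g, hg⟩ := isConj_iff.1 c.fus
  obtain ⟨k, hk, hB⟩ := c.elem32 (A := cj g⁻¹ (zpowers c.t ⊔ D.map c.ι))
    (fun a ha => by
      have : g * a * g⁻¹ * (g * a * g⁻¹) = 1 := by
        obtain ⟨e, he, l | l⟩ := mem_B.1 (show g * a * g⁻¹ ∈ _ by simpa using H42.mem_cj.1 ha)
        · rw [l]; exact ι_sq (sq e he)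
        · rw [l]; exact tι_sq (sq e he)
      calc a * a = g⁻¹ * (g * a * g⁻¹ * (g * a * g⁻¹)) * g := by group
        _ = 1 := by rw [this]; group)
    (H42.mem_cj.2 (by rw [inv_inv, hg]; exact mem_B.2 ⟨z, zD, Or.inr rfl⟩))
    (by rw [H42.card_cj]; exact card_B cD)
  obtain ⟨D', hD', hB⟩ : ∃ D', Dd c D' ∧
      cj k (cj g⁻¹ (zpowers c.t ⊔ D.map c.ι)) = zpowers c.t ⊔ D'.map c.ι := by
    rcases hB with hB | hB
    · exact ⟨E, c.ddE, hB⟩
    · exact ⟨F, c.ddF, hB⟩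
  rw [H42.cj_cj] at hB
  obtain ⟨l, hl, ln, lf⟩ := hD'.fpf
  have lt := c.Lt l hl
  set x := k * g⁻¹ with hx
  refine ⟨x⁻¹ * l * x, mem_Nn sq fun b hb => ?_, fun hc => ?_⟩
  · have h1 : x * b * x⁻¹ ∈ zpowers c.t ⊔ D'.map c.ι := hB ▸ H42.conj_mem_cj hb
    have h2 := Nn_B (mem_Nn_of_comm lt ln) h1
    rw [← hB, H42.mem_cj] at h2
    convert h2 using 1
    group
  · obtain ⟨e, he, q⟩ := conj_t_mem (c := c) (D := D') (g := x)
      (hB ▸ H42.conj_mem_cj (mem_sup_left (mem_zpowers _)))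
    have h1 : Commute l (c.t * c.ι e) := by
      rw [← q, Commute, SemiconjBy]
      calc _ = x * (x⁻¹ * l * x * c.t) * x⁻¹ := by group
        _ = _ := by rw [hc.eq]; group
    have h2 : Commute l (c.ι e) := by
      have := lt.mul_right h1
      rwa [← mul_assoc, c.tt, one_mul] at this
    rw [lf e he h2, map_one, mul_one, hx] at q
    have h3 : g * c.t * g⁻¹ = c.t := by
      calc _ = g * (k⁻¹ * c.t * k) * g⁻¹ := by rw [hk.inv_left.eq, inv_mul_cancel_right]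
        _ = g * (k⁻¹ * (k * g⁻¹ * c.t * (k * g⁻¹)⁻¹) * k) * g⁻¹ := by rw [q]
        _ = _ := by group
    rw [hg, mul_eq_left, ← map_one c.ι] at h3
    exact z_ne (c.inj h3)

/-- transport along `tr` -/
theorem transport (h : Dd c D) {K : Subgroup G} (hK : ∀ g ∈ Nn c D, ∀ k ∈ K, g * k * g⁻¹ ∈ K)
    {n : G} (hn : n ∈ K) (hN : n ∈ Nn c D) (hc : ¬ Commute n c.t) {e : T} (he : e ∈ D) :
    ∃ m ∈ K, m * c.t * m⁻¹ = c.t * c.ι e := by
  by_cases h1 : e = 1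
  · exact ⟨1, one_mem _, h1 ▸ φ_one (Commute.one_left _)⟩
  obtain ⟨-, e0, he0, k⟩ := hN
  have h0 : e0 ≠ 1 := by
    rintro rfl
    rw [map_one, mul_one] at k
    exact hc (mul_inv_eq_iff_eq_mul.1 k)
  obtain ⟨g0, gt0, gn0, k0⟩ := h.tr e0 he0 h0
  obtain ⟨g, gt, gn, k1⟩ := h.tr e he h1
  refine ⟨_, hK _ (mem_Nn_of_comm (gt.inv_left.mul_left gt0) (nm_mul (nm_inv gn) gn0)) n hn,
    φ_conj (gt.inv_left.mul_left gt0) k ?_⟩
  calc _ = g⁻¹ * (g0 * c.ι e0 * g0⁻¹) * g := by group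
    _ = _ := by rw [k0, ← k1]; group

theorem dvd_aut {R A : Subgroup G} (hA : A ≤ normalizer (R : Set G)) :
    (centralizer (R : Set G)).relIndex A ∣ Nat.card (MulAut R) := by
  let φ : A →* MulAut R := R.normalizerMonoidHom.comp (inclusion hA)
  have : φ.ker = (centralizer (R : Set G)).subgroupOf A := by
    ext x
    rw [← MonoidHom.comap_ker, normalizerMonoidHom_ker]
    simp [mem_subgroupOf]
  rw [relIndex, ← this, index_ker]
  exact card_subgroup_dvd_card _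

theorem mem_C {g : G} : g ∈ centralizer (D.map c.ι : Set G) ↔ ∀ e ∈ D, Commute g (c.ι e) := by
  refine ⟨fun h e he => (h _ (mem_map_of_mem c.ι he)).symm, fun h => ?_⟩
  rintro _ ⟨e, he, rfl⟩
  exact (h e he).symm.eq

/-- an element centralising `D` moves `t` -/
theorem moves2 (h : Dd c D) :
    ∃ n ∈ Nn c D, (∀ e ∈ D, Commute n (c.ι e)) ∧ ¬ Commute n c.t := by
  obtain ⟨sq, nm, cm, cD, zD, cc⟩ := facts h.or
  by_contra H
  push Not at H
  set C := centralizer (D.map c.ι : Set G) with hC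
  have hN : Nn c D ≤ normalizer (D.map c.ι : Set G) := fun g hg => nm_iff.1 hg.1
  have d1 := dvd_aut hN
  let N1 := Nn c D ⊓ centralizer {c.t}
  have hle : C ⊓ Nn c D ≤ N1 := fun g hg =>
    ⟨hg.2, mem_centralizer_singleton_iff.2 (H g hg.2 (mem_C.1 hg.1)).eq⟩
  have i1 : N1.relIndex (Nn c D) = 16 := by
    obtain ⟨n, hn, hc⟩ := moves h
    rw [inf_relIndex_left, BEND.relIndex_cent_eq (Nn c D) c.t {x | ∃ e ∈ D, x = c.t * c.ι e}
      fun x => ⟨?_, ?_⟩, ← cD]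
    · refine (Nat.card_eq_of_bijective (fun e : D => (⟨c.t * c.ι e, e, e.2, rfl⟩ :
        {x | ∃ e ∈ D, x = c.t * c.ι e})) ⟨fun e e' k => ?_, ?_⟩).symm
      · exact Subtype.ext (c.inj (mul_left_cancel (congrArg Subtype.val k)))
      · rintro ⟨_, e, he, rfl⟩
        exact ⟨⟨e, he⟩, rfl⟩
    · rintro ⟨e, he, rfl⟩
      exact transport h (fun g hg k hk => mul_mem (mul_mem hg hk) (inv_mem hg)) hn hn hc he
    · rintro ⟨d, ⟨-, e, he, k⟩, rfl⟩
      exact ⟨e, he, k⟩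
  have i2 : 8 ∣ C.relIndex N1 := by
    have hT : c.ι.range ≤ N1 := by
      rintro _ ⟨x, rfl⟩
      exact ⟨mem_Nn_of_comm (c.ιt x) (nm_ι nm x), mem_centralizer_singleton_iff.2 (c.ιt x).eq⟩
    haveI : (C.subgroupOf N1).Normal := normal_subgroupOf_of_le_normalizer
      (inf_le_left.trans (hN.trans (H42.normalizer_le_normalizer_centralizer _)))
    have := relIndex_dvd_index_of_normal (C.subgroupOf N1) (c.ι.range.subgroupOf N1)
    rw [relIndex_subgroupOf hT, ← index_comap] at this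
    have e : C.comap c.ι = D := by
      ext x
      rw [mem_comap, hC, mem_C]
      exact ⟨fun k => cc x fun e he => (ι_comm (k e he)).symm, fun k e he => comm_ι (cm x k e he)⟩
    have i : D.index = 8 := by
      have := D.card_mul_index
      rw [cD, card_T] at this
      omega
    rwa [e, i] at this
  refine not_dvd_aut (V := D.map c.ι) ?_ ?_ (dvd_trans ?_ d1)
  · rintro ⟨_, e, he, rfl⟩
    exact Subtype.ext (ι_sq (sq e he))
  · rw [card_map_of_injective c.inj, cD]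
  · rw [← hC, ← inf_relIndex_right, ← relIndex_mul_relIndex _ _ _ hle inf_le_left, i1]
    have : (C ⊓ Nn c D).relIndex N1 = C.relIndex N1 := by
      rw [← inf_relIndex_right, inf_assoc, inf_eq_right.2 (inf_le_left : N1 ≤ Nn c D),
        inf_relIndex_right]
    rw [this]
    exact Nat.mul_dvd_mul_right i2 16

theorem O_odd {o : G} (ho : o ∈ c.O) : Odd (orderOf o) :=
  c.Oodd.of_dvd_nat (c.O.orderOf_dvd_natCard ho)

theorem O_ι {o : G} (ho : o ∈ c.O) (x : T) : Commute (c.ι x) o := c.LO _ (c.toGF.ι_mem x) o ho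

/-- the centraliser of `⟨t⟩ × D` -/
theorem cent (h : Dd c D) {g : G} (ht : Commute g c.t) (hD : ∀ e ∈ D, Commute g (c.ι e)) :
    ∃ a, ∃ o ∈ c.O, (∃ e ∈ D, a = c.ι e ∨ a = c.t * c.ι e) ∧ a * a = 1 ∧ Commute o a ∧ g = a * o := by
  obtain ⟨sq, -⟩ := facts h.or
  obtain ⟨e, he, o, ho, k | k⟩ := h.cD g ht hD
  · exact ⟨_, o, ho, ⟨e, he, Or.inl rfl⟩, ι_sq (sq e he), (O_ι ho e).symm, k⟩
  · exact ⟨_, o, ho, ⟨e, he, Or.inr rfl⟩, tι_sq (sq e he),
      (c.Ot o ho).mul_right (O_ι ho e).symm, k⟩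

theorem sq_mem (h : Dd c D) {g : G} (ht : Commute g c.t) (hD : ∀ e ∈ D, Commute g (c.ι e)) :
    g * g ∈ c.O := by
  obtain ⟨a, o, ho, -, a2, ao, rfl⟩ := cent h ht hD
  rw [mul_assoc, ← mul_assoc o, ao.eq, ← mul_assoc, ← mul_assoc, a2, one_mul]
  exact mul_mem ho ho

theorem comm_conj {g x y : G} (h : Commute x (g⁻¹ * y * g)) : Commute (g * x * g⁻¹) y := by
  rw [Commute, SemiconjBy]
  calc _ = g * (x * (g⁻¹ * y * g)) * g⁻¹ := by group
    _ = _ := by rw [h.eq]; group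

theorem Nn_C {g x : G} (hg : g ∈ Nn c D) (hx : ∀ e ∈ D, Commute x (c.ι e)) :
    ∀ e ∈ D, Commute (g * x * g⁻¹) (c.ι e) := fun e he => by
  obtain ⟨e', he', k⟩ := nm_inv hg.1 e he
  rw [inv_inv] at k
  exact comm_conj (k ▸ hx e' he')

theorem Nn_O (h : Dd c D) {g o : G} (hg : g ∈ Nn c D) (ho : o ∈ c.O) : g * o * g⁻¹ ∈ c.O := by
  refine mem_of_sq_mem ?_ (sq_mem h (comm_conj ?_) (Nn_C hg fun e _ => (O_ι ho e).symm))
  · rw [← MulAut.conj_apply, MulEquiv.orderOf_eq]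
    exact O_odd ho
  · obtain ⟨-, e, -, k⟩ := (Nn c D).inv_mem hg
    rw [inv_inv] at k
    rw [k]
    exact (c.Ot o ho).mul_right (O_ι ho e).symm

variable (c D) in
/-- the elements of the normaliser centralising `D` -/
def Mm : Subgroup G := Nn c D ⊓ centralizer (D.map c.ι : Set G)

variable (c D) in
/-- the elements of the normaliser centralising `D` and `O` -/
def M0 : Subgroup G := Mm c D ⊓ centralizer (c.O : Set G)

theorem Mm_conj {g x : G} (hg : g ∈ Nn c D) (hx : x ∈ Mm c D) : g * x * g⁻¹ ∈ Mm c D :=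
  ⟨(Nn c D).mul_mem (mul_mem hg hx.1) (inv_mem hg), mem_C.2 (Nn_C hg (mem_C.1 hx.2))⟩

theorem M0_conj (h : Dd c D) {g x : G} (hg : g ∈ Nn c D) (hx : x ∈ M0 c D) :
    g * x * g⁻¹ ∈ M0 c D := by
  refine ⟨Mm_conj hg hx.1, fun o ho => (comm_conj ?_).symm.eq⟩
  have := Nn_O h (inv_mem hg) ho
  rw [inv_inv] at this
  exact (hx.2 _ this).symm

theorem sq_t (h : Dd c D) {u : G} (hu : u ∈ Mm c D) : Commute (u * u) c.t := by
  obtain ⟨sq, -⟩ := facts h.or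
  obtain ⟨⟨-, e, he, k⟩, hc⟩ := hu
  refine mul_inv_eq_iff_eq_mul.1 ?_
  calc _ = u * (u * c.t * u⁻¹) * u⁻¹ := by group
    _ = u * (c.t * c.ι e) * u⁻¹ := by rw [k]
    _ = u * c.t * u⁻¹ * (u * c.ι e * u⁻¹) := by group
    _ = _ := by
      rw [k, (mem_C.1 hc e he).eq, mul_inv_cancel_right, mul_assoc, ι_sq (sq e he), mul_one]

/-- the 2-elements of `M0` -/
def Qq (h : Dd c D) : Subgroup G where
  carrier := {q | q ∈ M0 c D ∧ ∃ k : ℕ, q ^ 2 ^ k = 1}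
  one_mem' := ⟨one_mem _, 0, one_pow _⟩
  mul_mem' := by
    rintro a b ⟨ha, i, h1⟩ ⟨hb, j, h2⟩
    refine ⟨mul_mem ha hb, two_mul (U := M0 c D) (Z := c.O)
      (fun o ho => ⟨O_odd ho, fun u hu => hu.2 o ho⟩) (fun u hu => ⟨2, ?_⟩) ha hb h1 h2⟩
    have := sq_mem h (sq_t h hu.1) fun e he => (mem_C.1 hu.1.2 e he).mul_left (mem_C.1 hu.1.2 e he)
    rwa [← pow_two, ← pow_two, ← pow_mul] at this
  inv_mem' := by
    rintro a ⟨ha, i, h1⟩
    exact ⟨inv_mem ha, i, by rw [inv_pow, h1, inv_one]⟩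

theorem mem_Qq (h : Dd c D) {g : G} {k : ℕ} (h1 : g ^ 2 ^ k = 1) (h2 : ∀ e ∈ D, Commute g (c.ι e))
    (h3 : ∀ o ∈ c.O, Commute g o) (h4 : ∃ e ∈ D, g * c.t * g⁻¹ = c.t * c.ι e) : g ∈ Qq h :=
  ⟨⟨⟨⟨nm_of_comm h2, h4⟩, mem_C.2 h2⟩, fun o ho => (h3 o ho).symm.eq⟩, k, h1⟩

theorem surj (h : Dd c D) {l : G} (ln : Nm c.ι D l) (lf : ∀ e ∈ D, Commute l (c.ι e) → e = 1)
    {e : T} (he : e ∈ D) : ∃ a ∈ D, ∃ b ∈ D, l * c.ι a * l⁻¹ = c.ι b ∧ a * b = e := by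
  obtain ⟨sq, -, cm, -⟩ := facts h.or
  choose θ θD hθ using ln
  let f : D → D := fun a => ⟨a * θ a a.2, mul_mem a.2 (θD a a.2)⟩
  have hf : Function.Injective f := by
    intro a b k
    have k := congrArg (fun x : D => c.ι x) k
    simp only [f, map_mul, ← hθ] at k
    have e1 : (b : T)⁻¹ * a = b * (a : T)⁻¹ := by
      rw [inv_eq_of_mul_eq_one_right (sq _ a.2), inv_eq_of_mul_eq_one_right (sq _ b.2)]
    have : (b : T)⁻¹ * a = 1 := by
      refine lf _ (mul_mem (inv_mem b.2) a.2) (mul_inv_eq_iff_eq_mul.1 ?_)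
      conv_lhs => rw [e1]
      rw [map_mul, map_mul, map_inv, map_inv]
      calc _ = (c.ι b)⁻¹ * (c.ι b * (l * c.ι b * l⁻¹)) * (l * c.ι a * l⁻¹)⁻¹ := by group
        _ = _ := by rw [← k]; group
    exact Subtype.ext (inv_mul_eq_one.1 this).symm
  obtain ⟨a, k⟩ := Finite.surjective_of_injective hf ⟨e, he⟩
  exact ⟨a, a.2, _, θD a a.2, hθ a a.2, congrArg Subtype.val k⟩

theorem onto (h : Dd c D) {e : T} (he : e ∈ D) : ∃ q ∈ Qq h, q * c.t * q⁻¹ = c.t * c.ι e := by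
  obtain ⟨sq, -⟩ := facts h.or
  obtain ⟨l, hl, ln, lf⟩ := h.fpf
  have lt := c.Lt l hl
  obtain ⟨a, ha, b, hb, k, rfl⟩ := surj h ln lf he
  obtain ⟨n, hn, nD, nt⟩ := moves2 h
  obtain ⟨m, hm, km⟩ := transport h (K := Mm c D) (fun g hg k hk => Mm_conj hg hk)
    ⟨hn, mem_C.2 nD⟩ hn nt ha
  have mD := mem_C.1 hm.2
  have hx : m * (l * m⁻¹ * l⁻¹) ∈ M0 c D := by
    refine ⟨mul_mem hm (Mm_conj (mem_Nn_of_comm lt ln) (inv_mem hm)), fun o ho => ?_⟩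
    have h1 := Nn_O h (inv_mem hm.1) ho
    rw [inv_inv] at h1
    symm
    calc _ = m * (l * (m⁻¹ * (l⁻¹ * o) * m)) * m⁻¹ := by group
      _ = m * (l * (m⁻¹ * o * m) * m⁻¹ * l⁻¹ * m) * m⁻¹ := by
        rw [(c.LO l hl o ho).inv_left.eq]; group
      _ = _ := by rw [(c.LO l hl _ h1).eq]; group
  have kx : m * (l * m⁻¹ * l⁻¹) * c.t * (m * (l * m⁻¹ * l⁻¹))⁻¹ = c.t * c.ι (a * b) := by
    have k1 : m⁻¹ * c.t * m⁻¹⁻¹ = c.t * c.ι a := by
      calc _ = m⁻¹ * (c.t * c.ι a) * m * (m⁻¹ * c.ι a * m) := by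
            rw [show m⁻¹ * (c.t * c.ι a) * m * (m⁻¹ * c.ι a * m) =
              m⁻¹ * c.t * (c.ι a * c.ι a) * m by group, ι_sq (sq a ha)]; group
        _ = c.t * (m⁻¹ * c.ι a * m) := by rw [← km]; group
        _ = _ := by rw [(mD a ha).inv_left.eq]; group
    calc _ = m * (l * m⁻¹ * l⁻¹ * c.t * (l * m⁻¹ * l⁻¹)⁻¹) * m⁻¹ := by group
      _ = m * c.t * m⁻¹ * (m * c.ι b * m⁻¹) := by rw [φ_conj lt k1 k]; group
      _ = _ := by rw [km, (mD b hb).eq, mul_inv_cancel_right, map_mul, mul_assoc]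
  generalize m * (l * m⁻¹ * l⁻¹) = x at hx kx
  obtain ⟨q, o, i, hq, ho, q2, oo, e, -⟩ := exists_parts x
  have ot : Commute o c.t := mem_centralizer_singleton_iff.1 (mem_of_sq_mem oo
    (mem_centralizer_singleton_iff.2 (sq_t h (zpowers_le.2 hx ho).1).eq))
  refine ⟨q, ⟨zpowers_le.2 hx hq, i, q2⟩, ?_⟩
  rw [← kx, e, mul_assoc q o, ot.eq]
  group

end Dbl

open Dbl in
theorem Dd.exists_dd {D : Subgroup T} (h : Dd c D) : ∃ Q, DD c D Q := by
  obtain ⟨sq, -, cm, -⟩ := facts h.or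
  refine ⟨Qq h, ?_, ?_, ?_, fun q hq => mem_C.1 hq.1.1.2, fun q hq o ho => (hq.1.2 o ho).symm,
    fun q hq => hq.1.1.1.2, fun e he => onto h he, ?_, ?_,
    fun g k h1 h2 h3 h4 => mem_Qq h h1 h2 h3 h4⟩
  · rintro ⟨q, hq, k, h1⟩
    exact ⟨k, Subtype.ext h1⟩
  · exact mem_Qq h (k := 1) (by rw [pow_one, pow_two, c.tt]) (fun e _ => (c.ιt e).symm)
      (fun o ho => (c.Ot o ho).symm) ⟨1, one_mem _, φ_one (Commute.refl _)⟩
  · intro e he
    exact mem_Qq h (k := 1) (by rw [pow_one, pow_two, ι_sq (sq e he)])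
      (fun e' he' => comm_ι (cm e he e' he')) (fun o ho => O_ι ho e) ⟨1, one_mem _, φ_one (c.ιt e)⟩
  · rintro q ⟨hq, k, h1⟩ ht
    obtain ⟨a, o, ho, ha, a2, ao, e⟩ := cent h ht (mem_C.1 hq.1.2)
    rwa [two_unique (j := 1) (O_odd ho) ao h1 (by rw [pow_one, pow_two, a2]) e]
  · rintro g h1 h2 q ⟨hq, k, h3⟩
    exact ⟨M0_conj h ⟨h2, h1⟩ hq, k, by rw [conj_pow, h3, mul_one, mul_inv_cancel]⟩

end Cfsg.Agent.WR
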