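import Cfsg.Agent.WR.Act
import Cfsg.Agent.WR.Gen
import Cfsg.Agent.STD.Top

/-! Project WR: automorphisms of `A`, the standard subgroup `L` and pairs of its conjugates. -/

set_option autoImplicit false
set_option maxRecDepth 100000
set_option linter.unusedSectionVars false

namespace Cfsg.Agent.WR

open Subgroup Cfsg.Agent.H78
open Cfsg.Agent.H42 (SylIn cj)

variable {A G : Type*} [Group A] [Group G] [Finite A] [Finite G]

theorem ra_conj (γ : MulAut A) (a : A) : γ * MulAut.conj a * γ⁻¹ = MulAut.conj (γ a) := by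
  ext x; simp

theorem ra_two {g : G} {k : ℕ} (h : g ^ 2 ^ k = 1) : IsPGroup 2 (zpowers g) := by
  obtain ⟨j, -, hj⟩ := (Nat.dvd_prime_pow Nat.prime_two).1 (orderOf_dvd_of_pow_eq_one h)
  exact IsPGroup.of_card (n := j) (by rw [Nat.card_zpowers, hj])

theorem MF.raSyl (m : MF A) : H91.SylIn 2 m.ι.range ⊤ :=
  ⟨le_top, T_two.of_surjective _ m.ι.rangeRestrict_surjective, relIndex_top_right m.ι.range ▸ m.syl.not_two_dvd_nat⟩

theorem MF.center_eq (m : MF A) {a : A} (h : ∀ b, Commute a b) : a = 1 := by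
  obtain ⟨e, -, rfl⟩ := m.cE a fun e _ => h _
  obtain rfl | rfl := (mem_center e).1 fun g => m.inj (by rw [map_mul, map_mul, (h _).eq])
  · exact map_one _
  · have := m.gz
    rw [mul_inv_eq_iff_eq_mul, (h _).eq, mul_right_inj] at this
    exact absurd (m.inj this) (by decide +kernel)

theorem MF.raInj (m : MF A) : Function.Injective (MulAut.conj : A →* MulAut A) :=
  (injective_iff_map_eq_one _).2 fun _ e => m.center_eq fun b => mul_inv_eq_iff_eq_mul.1 (DFunLike.congr_fun e b)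

theorem MF.invA (m : MF A) {a : A} (h2 : a * a = 1) (h1 : a ≠ 1) : ∃ b, b * a * b⁻¹ = m.ι z := by
  obtain ⟨b, -, hb⟩ := m.raSyl.exists_conj_mem (ra_two (k := 1) (by rwa [pow_one, sq])) le_top
  obtain ⟨x, e⟩ := hb a (mem_zpowers a)
  have x2 : x * x = 1 := m.inj (by rw [map_mul, e, conj_mul, h2, map_one]; group)
  by_cases hx : x ∈ E
  · obtain ⟨l, -, e'⟩ := m.tr1 hx fun c => h1 (by simpa [c] using e.symm)
    exact ⟨l * b, by rw [← e', e]; group⟩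
  · obtain ⟨l, -, e'⟩ := m.clsO x2 hx
    exact ⟨m.gF * l * b, by rw [← m.gz, ← e', e]; group⟩

theorem MF.sq_inn (m : MF A) (γ δ : MulAut A) :
    (∃ a, γ = MulAut.conj a) ∨ (∃ a, δ = MulAut.conj a) ∨ ∃ a, γ * δ = MulAut.conj a := by
  obtain h | ⟨o, β, oo, -, -, h⟩ := m.out
  · exact Or.inl (h γ)
  obtain ⟨a, e | rfl⟩ := h γ
  · exact Or.inl ⟨a, e⟩
  obtain ⟨b, e | rfl⟩ := h δ
  · exact Or.inr (Or.inl ⟨b, e⟩)
  exact Or.inr (Or.inr ⟨o a * b, by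
    rw [map_mul, ← ra_conj, inv_eq_of_mul_eq_one_right oo, mul_assoc _ o]⟩)

theorem MF.not_sw (m : MF A) {β : MulAut T} (h : Sw β) (a : A) :
    ¬ ∀ x, a * m.ι x * a⁻¹ = m.ι (β x) := fun c => by
  obtain ⟨b, -, k, -, -, hk, -, -, n, hn, rfl⟩ := exists_parts a
  have h1 : ∀ i : ℕ, ∀ x, a ^ i * m.ι x * (a ^ i)⁻¹ = m.ι ((β ^ i) x) := fun i => by
    induction i with
    | zero => simp
    | succ i ih => intro x; rw [pow_succ' β, MulAut.mul_apply, ← c, ← ih, pow_succ']; group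
  obtain ⟨y, e⟩ := (m.raSyl.eq_of_le (IsPGroup.to_sup_of_normal_left' m.raSyl.isPGroup (ra_two hk)
    (zpowers_le.2 (H42.mem_normalizer_of_conj_mem (by rintro _ ⟨x, rfl⟩; exact ⟨_, (h1 n x).symm⟩))))
    le_sup_left le_top).le (mem_sup_right (mem_zpowers _))
  refine not_fx_sw (fx_conj y) ((show β ^ n = MulAut.conj y from MulEquiv.ext fun x => m.inj ?_) ▸ h.pow_odd hn)
  rw [← h1, ← e, MulAut.conj_apply, map_mul, map_mul, map_inv]

theorem MF.autSyl (m : MF A) {Q : Subgroup (MulAut A)} (hQ : IsPGroup 2 Q) : ∃ a : A, ∀ γ ∈ Q,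
    (∃ x, MulAut.conj a * γ * (MulAut.conj a)⁻¹ = MulAut.conj (m.ι x)) ∨
      ((¬ ∃ b, γ = MulAut.conj b) ∧ ∃ β, Sw β ∧
        ∀ y, (MulAut.conj a * γ * (MulAut.conj a)⁻¹) (m.ι y) = m.ι (β y)) := by
  obtain h | ⟨o, β, oo, hβ, ho, h⟩ := m.out
  · obtain ⟨a, -, ha⟩ := m.raSyl.exists_conj_mem (hQ.comap_of_injective _ m.raInj) le_top
    refine ⟨a, fun γ hγ => Or.inl ?_⟩
    obtain ⟨b, rfl⟩ := h γ
    obtain ⟨x, e⟩ := ha b hγ
    exact ⟨x, by rw [e, map_mul, map_mul, map_inv]⟩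
  obtain ⟨P, hP, hR⟩ := H91.exists_sylIn_ge (IsPGroup.to_sup_of_normal_left' (m.raSyl.isPGroup.map MulAut.conj)
    (ra_two (g := o) (k := 1) (by rwa [pow_one, sq])) (zpowers_le.2 (H42.mem_normalizer_of_conj_mem (by
      rintro _ ⟨_, ⟨x, rfl⟩, rfl⟩
      exact ⟨_, ⟨β x, rfl⟩, by rw [ra_conj, ho]⟩)))) le_top
  have oP : o ∈ P := hR (mem_sup_right (mem_zpowers o))
  have h1 := (m.raSyl.eq_of_le (hP.isPGroup.comap_of_injective _ m.raInj)
    (map_le_iff_le_comap.1 (le_sup_left.trans hR)) le_top).le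
  obtain ⟨a, ha⟩ : ∃ a : A, ∀ γ ∈ Q, MulAut.conj a * γ * (MulAut.conj a)⁻¹ ∈ P := by
    obtain ⟨δ, -, hδ⟩ := hP.exists_conj_mem hQ le_top
    obtain ⟨a, rfl | rfl⟩ := h δ
    · exact ⟨a, hδ⟩
    · exact ⟨a, fun γ hγ => by
        simpa only [mul_assoc, mul_inv_rev, inv_mul_cancel_left, inv_mul_cancel, mul_one] using
          mul_mem (mul_mem (inv_mem oP) (hδ γ hγ)) oP⟩
  refine ⟨a, fun γ hγ => ?_⟩
  obtain ⟨b, e | e⟩ := h (MulAut.conj a * γ * (MulAut.conj a)⁻¹)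
  · obtain ⟨x, rfl⟩ := h1 (show b ∈ P.comap MulAut.conj from mem_comap.2 (e ▸ ha γ hγ))
    exact Or.inl ⟨x, e⟩
  · obtain ⟨x, rfl⟩ := h1 (show b ∈ P.comap MulAut.conj from (P.mul_mem_cancel_left oP).1 (e ▸ ha γ hγ))
    refine Or.inr ⟨?_, _, hβ.mul_fx (fx_conj x), fun y => ?_⟩
    · rintro ⟨c, rfl⟩
      rw [← mul_inv_eq_iff_eq_mul, ← map_inv, ← map_inv, ← map_mul, ← map_mul, ← map_mul] at e
      exact m.not_sw hβ _ fun y => by rw [← ho, ← e]; rfl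
    · rw [e, MulAut.mul_apply, MulAut.mul_apply, ← ho, MulAut.conj_apply, MulAut.conj_apply, map_mul m.ι, map_mul m.ι,
        map_inv]

theorem MF.autC (m : MF A) {D : Subgroup T} (hD : D = E ∨ D = F) {γ : MulAut A}
    (h : ∀ e ∈ D, γ (m.ι e) = m.ι e) : ∃ e ∈ D, γ = MulAut.conj (m.ι e) := by
  by_cases hi : ∃ a, γ = MulAut.conj a
  · obtain ⟨a, rfl⟩ := hi
    have c : ∀ e ∈ D, Commute a (m.ι e) := fun e he => mul_inv_eq_iff_eq_mul.1 (h e he)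
    rcases hD with rfl | rfl
    · exact (m.cE a c).imp fun e he => ⟨he.1, by rw [he.2]⟩
    · exact (m.cF a c).imp fun e he => ⟨he.1, by rw [he.2]⟩
  exfalso
  obtain ⟨_, -, k, -, -, hk, -, -, n, ⟨n, rfl⟩, rfl⟩ := exists_parts γ
  have h1 : ∀ i : ℕ, ∀ e ∈ D, (γ ^ i) (m.ι e) = m.ι e := fun i e he => by
    induction i with
    | zero => rfl
    | succ i ih => rw [pow_succ, MulAut.mul_apply, h e he, ih]
  have hD' : Nat.card D = 16 ∧ ∀ e ∈ D, e * e = 1 := by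
    rcases hD with rfl | rfl
    exacts [⟨card_E, fun e he => (E_facts e he).1⟩, ⟨card_F, fun e he => (F_facts e he).1⟩]
  obtain ⟨a, ha⟩ := m.autSyl (IsPGroup.to_sup_of_normal_left' (((T_two.to_subgroup D).map m.ι).map MulAut.conj)
    (ra_two hk) (zpowers_le.2 (H42.mem_normalizer_of_conj_mem (by
      rintro _ ⟨_, ⟨x, hx, rfl⟩, rfl⟩
      exact ⟨_, ⟨x, hx, rfl⟩, by rw [ra_conj, h1 _ x hx]⟩))))
  have h2 : cj a (D.map m.ι) ≤ m.ι.range := by
    rintro _ ⟨_, ⟨e, he, rfl⟩, rfl⟩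
    obtain ⟨x, e'⟩ | ⟨c, -⟩ := ha _ (mem_sup_left ⟨_, ⟨e, he, rfl⟩, rfl⟩)
    · exact ⟨x, m.raInj (by rw [← e', ra_conj]; rfl)⟩
    · exact (c ⟨_, rfl⟩).elim
  obtain ⟨x, e⟩ | ⟨-, β, hβ, e⟩ := ha _ (mem_sup_right (mem_zpowers _))
  · obtain ⟨b, hb⟩ := ((m.sq_inn γ γ).resolve_left hi).resolve_left hi
    rw [pow_succ, pow_mul, sq, hb, mul_inv_eq_iff_eq_mul, ← eq_inv_mul_iff_mul_eq, ← eq_inv_mul_iff_mul_eq] at e
    exact hi ⟨_, by rw [e, ← map_pow, ← map_inv, ← map_inv, ← map_mul, ← map_mul, ← map_mul]⟩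
  have := sw_elem hβ (A := (cj a (D.map m.ι)).comap m.ι) (by
      rintro x ⟨_, ⟨d, hd, rfl⟩, e'⟩
      exact m.inj (by rw [map_mul, ← e', ← map_mul, ← map_mul, hD'.2 d hd, map_one, map_one])) (by
      rintro x ⟨_, ⟨d, hd, rfl⟩, e'⟩
      refine m.inj ?_
      rw [← e, ← e', MulAut.mul_apply, MulAut.mul_apply]
      exact congrArg _ ((congrArg _ (MulAut.inv_apply_self A _ _)).trans (h1 _ d hd)))
  rw [← card_map_of_injective m.inj, map_comap_eq_self h2, H42.card_cj, card_map_of_injective m.inj, hD'.1] at this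
  omega

variable (s : St A G)

theorem St.raN {n : G} (hn : n ∈ s.N) (l : s.L) : n * l * n⁻¹ ∈ s.L := H42.conj_mem_of_mem_normalizer hn l.2

theorem St.raKer (m : MF A) {l : s.L} (h : l ∈ center s.L) : s.ρ l = 1 :=
  m.center_eq fun b => by
    obtain ⟨b, rfl⟩ := s.onto b
    exact Commute.map (mem_center_iff.1 h b).symm s.ρ

theorem St.ind_ex (m : MF A) {n : G} (hn : n ∈ s.N) : ∃ γ, s.Ind n γ := by
  let c : MulAut s.L := s.L.normalizerMonoidHom ⟨n, hn⟩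
  let f := s.ρ.liftOfSurjective s.onto ⟨s.ρ.comp c.toMonoidHom, fun l hl => s.raKer m (mem_center_iff.2 fun b => by
    obtain ⟨b, rfl⟩ := c.surjective b
    exact (Commute.map (mem_center_iff.1 (s.kcen hl) b) c).eq)⟩
  have hf : ∀ l, f (s.ρ l) = s.ρ (c l) := fun l => MonoidHom.liftOfRightInverse_comp_apply _ _ _ _ _
  have hs : Function.Surjective f := fun a => by
    obtain ⟨l, rfl⟩ := (s.onto.comp c.surjective) a
    exact ⟨_, hf l⟩
  exact ⟨MulEquiv.ofBijective f ⟨Finite.injective_iff_surjective.2 hs, hs⟩, fun l l' e =>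
    (congrArg s.ρ (Subtype.ext e.symm)).trans (hf l).symm⟩

theorem St.ind_unique {n : G} (hn : n ∈ s.N) {γ δ : MulAut A} (h : s.Ind n γ) (h' : s.Ind n δ) :
    γ = δ := MulEquiv.ext fun a => by
  obtain ⟨l, rfl⟩ := s.onto a
  exact (h l ⟨_, s.raN hn l⟩ rfl).symm.trans (h' l _ rfl)

theorem St.ind_mul {n n' : G} (hn' : n' ∈ s.N) {γ δ : MulAut A} (h : s.Ind n γ) (h' : s.Ind n' δ) :
    s.Ind (n * n') (γ * δ) := fun l l' e => by
  rw [MulAut.mul_apply, ← h' l ⟨_, s.raN hn' l⟩ rfl]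
  exact h _ _ (by rw [← e]; group)

theorem St.ind_one {n : G} (hn : n ∈ s.N) : s.Ind n 1 ↔ n ∈ s.K := by
  refine ⟨fun h => ?_, fun h l l' e => congrArg s.ρ (Subtype.ext ?_)⟩
  · have k : ∀ a ∈ s.L, ∃ o ∈ s.L, (∀ b ∈ s.L, Commute o b) ∧ n * a * n⁻¹ = o * a := fun a ha => by
      have := s.kcen (show ⟨_, s.raN hn ⟨a, ha⟩⟩ * ⟨a, ha⟩⁻¹ ∈ s.ρ.ker by
        rw [MonoidHom.mem_ker, map_mul, map_inv, h ⟨a, ha⟩ _ rfl, MulAut.one_apply, mul_inv_cancel])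
      exact ⟨_, mul_mem (s.raN hn ⟨a, ha⟩) (inv_mem ha), fun b hb =>
        (congrArg Subtype.val (mem_center_iff.1 this ⟨b, hb⟩)).symm, (inv_mul_cancel_right _ _).symm⟩
    have : ⁅s.L, s.L⁆ ≤ centralizer {n} := commutator_le.2 fun a ha b hb => mem_centralizer_singleton_iff.2 (by
      obtain ⟨o, -, c, e⟩ := k a ha
      obtain ⟨o', ho', c', e'⟩ := k b hb
      rw [eq_comm, ← mul_inv_eq_iff_eq_mul, conjugate_commutatorElement, e, e', commutatorElement_def,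
        commutatorElement_def]
      calc o * a * (o' * b) * (o * a)⁻¹ * (o' * b)⁻¹ = o * (a * o' * b * a⁻¹) * o⁻¹ * b⁻¹ * o'⁻¹ := by group
        _ = o' * (a * b * a⁻¹ * b⁻¹) * o'⁻¹ := by
          rw [(c _ (mul_mem (mul_mem (mul_mem ha ho') hb) (inv_mem ha))).eq, ← (c' a ha).eq]; group
        _ = _ := by
          rw [(c' _ (mul_mem (mul_mem (mul_mem ha hb) (inv_mem ha)) (inv_mem hb))).eq, mul_inv_cancel_right])
    exact mem_centralizer_iff.2 fun l hl => mem_centralizer_singleton_iff.1 (this (s.perf.ge hl))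
  · rw [← e, ← mem_centralizer_iff.1 h l l.2, mul_inv_cancel_right]

theorem St.ind_conj (l : s.L) : s.Ind l (MulAut.conj (s.ρ l)) := fun a b e => by
  rw [show b = l * a * l⁻¹ from Subtype.ext e.symm, map_mul, map_mul, map_inv]; rfl

theorem St.K_le : s.K ≤ s.N := centralizer_le_normalizer _

theorem St.inn_iff {n : G} (hn : n ∈ s.N) {γ : MulAut A} (h : s.Ind n γ) :
    s.Inn n ↔ ∃ a, γ = MulAut.conj a := by
  constructor
  · rintro ⟨k, hk, l, hl, rfl⟩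
    exact ⟨_, (s.ind_unique hn h (s.ind_mul (le_normalizer hl) ((s.ind_one (s.K_le hk)).2 hk)
      (s.ind_conj ⟨l, hl⟩))).trans (one_mul _)⟩
  · rintro ⟨a, rfl⟩
    obtain ⟨l, rfl⟩ := s.onto a
    have := s.ind_mul (le_normalizer l⁻¹.2) h (s.ind_conj l⁻¹)
    rw [← map_mul, ← map_mul, mul_inv_cancel, map_one, map_one, s.ind_one (mul_mem hn (le_normalizer l⁻¹.2))] at this
    exact ⟨_, this, l, l.2, (inv_mul_cancel_right _ _).symm⟩

theorem St.exists_pi (m : MF A) : ∃ π : s.N →* MulAut A, ∀ n : s.N, s.Ind n (π n) := by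
  choose f hf using fun n : s.N => s.ind_ex m n.2
  exact ⟨MonoidHom.mk' f fun a b => s.ind_unique (a * b).2 (hf _) (s.ind_mul b.2 (hf a) (hf b)), hf⟩

theorem St.conj_K {n k : G} (hn : n ∈ s.N) (hk : k ∈ s.K) : n * k * n⁻¹ ∈ s.K :=
  H42.conj_mem_of_mem_normalizer (H42.normalizer_le_normalizer_centralizer _ hn) hk

theorem St.cen_le {u g : G} (hu : u ∈ s.K) (h2 : u * u = 1) (h1 : u ≠ 1) (hg : Commute g u) :
    g ∈ s.N := s.tight g u hu h2 h1 (by rwa [hg.eq, mul_inv_cancel_right])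

theorem St.raOdd {o : s.L} (h : s.ρ o = 1) : Odd (orderOf o) := s.kodd.of_dvd_nat (s.ρ.ker.orderOf_dvd_natCard h)

theorem St.odd_KL (m : MF A) {u : G} (hu : u ∈ s.K) (hL : u ∈ s.L) : Odd (orderOf u) :=
  orderOf_mk u hL ▸ s.raOdd (s.raKer m (mem_center_iff.2 fun b => Subtype.ext (mem_centralizer_iff.1 hu b b.2)))

theorem St.two_eq {l l' : s.L} {i j : ℕ} (h1 : l ^ 2 ^ i = 1) (h2 : l' ^ 2 ^ j = 1)
    (e : s.ρ l = s.ρ l') : l = l' :=
  have h : s.ρ (l'⁻¹ * l) = 1 := by rw [map_mul, map_inv, e, inv_mul_cancel]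
  two_unique (s.raOdd h) (mem_center_iff.1 (s.kcen h) l').symm h1 h2 (mul_inv_cancel_left _ _).symm

theorem St.exists_lf (m : MF A) : ∃ j, Lf m s j := by
  have k : ∀ x, ∃ l : s.L, (∃ k, l ^ 2 ^ k = 1) ∧ s.ρ l = m.ι x := fun x => by
    obtain ⟨l, e⟩ := s.onto (m.ι x)
    obtain ⟨a, o, k, -, ⟨i, rfl⟩, hk, ho, e', -⟩ := exists_parts l
    refine ⟨a, ⟨k, hk⟩, ?_⟩
    rw [← e, e', map_mul, eq_one_of_odd (o := s.ρ _) (ho.of_dvd_nat (orderOf_map_dvd _ _)) (k := 3), mul_one]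
    rw [map_zpow, e, ← zpow_natCast, ← zpow_mul, mul_comm, zpow_mul, zpow_natCast, ← map_pow]
    exact (congrArg (m.ι · ^ i) (pow8 x)).trans (by rw [map_one, one_zpow])
  choose f h1 h2 using k
  refine ⟨s.L.subtype.comp (MonoidHom.mk' f fun a b => ?_), fun x => (f x).2, h2⟩
  obtain ⟨i, hi⟩ := h1 a
  obtain ⟨j, hj⟩ := h1 b
  obtain ⟨k, hk⟩ := h1 (a * b)
  obtain ⟨k', hk'⟩ := two_mul (U := m.ι.range.comap s.ρ) (Z := s.ρ.ker)
    (fun o ho => ⟨s.raOdd ho, fun u _ => (mem_center_iff.1 (s.kcen ho) u).symm⟩) (by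
      rintro u ⟨x, e⟩
      exact ⟨3, by rw [MonoidHom.mem_ker, map_pow, ← e, ← map_pow]; exact (congrArg m.ι (pow8 x)).trans (map_one _)⟩)
    ⟨a, (h2 a).symm⟩ ⟨b, (h2 b).symm⟩ hi hj
  exact s.two_eq hk hk' (by rw [map_mul, h2, h2, h2, map_mul])

theorem St.inn_inv (m : MF A) {u : G} (h : s.Inn u) (h2 : u * u = 1) :
    ∃ k ∈ s.K, ∃ l ∈ s.L, k * k = 1 ∧ l * l = 1 ∧ u = k * l := by
  obtain ⟨k, hk, l, hl, rfl⟩ := h
  have c : Commute k l := (mem_centralizer_iff.1 hk l hl).symm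
  rw [← sq, c.mul_pow] at h2
  have h3 := eq_inv_of_mul_eq_one_right h2
  obtain ⟨n, hn⟩ := s.odd_KL m (h3 ▸ inv_mem (pow_mem hk 2)) (pow_mem hl 2)
  have h4 : (l ^ 2) ^ (2 * n + 1) = 1 := hn ▸ pow_orderOf_eq_one _
  refine ⟨_, pow_mem hk (2 * n + 1), _, pow_mem hl (2 * n + 1), ?_, ?_, ?_⟩
  · rw [← sq, pow_right_comm, eq_inv_of_mul_eq_one_left h2, inv_pow, h4, inv_one]
  · rw [← sq, pow_right_comm, h4]
  · rw [← c.mul_pow, pow_succ, pow_mul, c.mul_pow, h2, one_pow, one_mul]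

theorem St.exists_cj (g : G) : ∃ s' : St A G, s'.L = cj g s.L := by
  have hK : ∀ {u : G}, u ∈ centralizer (cj g s.L : Set G) ↔ g⁻¹ * u * g ∈ s.K := by
    rw [← H42.cj_centralizer]; exact H42.mem_cj
  have hN : ∀ {u : G}, u ∈ normalizer (cj g s.L : Set G) ↔ g⁻¹ * u * g ∈ s.N := by
    rw [← H42.cj_normalizer]; exact H42.mem_cj
  let e := (H42.cjEquiv g s.L).symm
  refine ⟨⟨s.X, cj g s.L, g * s.t * g⁻¹, s.ρ.comp e.toMonoidHom, s.Xn, s.Xs, s.Xp, fun x => ?_,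
    H42.cj_le_iff.2 fun x hx => s.Xn.conj_mem x (s.LX hx) g, by rw [conj_mul, s.tt]; group, by simpa using s.t1,
    hK.2 (by simpa [mul_assoc] using s.tK), s.onto.comp e.surjective, ?_, fun x hx => mem_center_iff.2 fun y =>
      e.injective (by rw [map_mul, map_mul]; exact mem_center_iff.1 (s.kcen hx) _), ?_, fun x u hu h2 h1 h => ?_,
    fun x c => ?_, ?_⟩, rfl⟩
  · exact (s.Xi (g⁻¹ * x * g)).imp (fun h => by simpa [mul_assoc] using s.Xn.conj_mem _ h g)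
      fun h => by simpa [mul_assoc] using s.Xn.conj_mem _ h g
  · rw [← MonoidHom.comap_ker, comap_equiv_eq_map_symm', card_map_of_injective e.symm.injective]; exact s.kodd
  · rw [← map_commutator, s.perf]
  · exact hN.2 (s.tight _ _ (hK.1 hu) (by simpa [mul_assoc] using congrArg (g⁻¹ * · * g) h2)
      (fun c => h1 (by simpa [mul_assoc] using congrArg (g * · * g⁻¹) c))
      (by simpa [mul_assoc] using hK.1 h))
  · refine s.std (g⁻¹ * x * g) (H42.cj_le_iff.2 fun l hl => ?_)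
    simpa [mul_assoc] using hK.1 (c (H42.conj_mem_cj (H42.conj_mem_cj hl)))
  · obtain ⟨x, u, h1, h2, h3, h4, h5⟩ := s.ex
    exact ⟨g * x * g⁻¹, g * u * g⁻¹, fun c => h1 (by simpa [mul_assoc] using hN.1 c),
      hK.2 (by simpa [mul_assoc] using h2), by rw [conj_mul, h3]; group, by simpa using h4,
      hN.2 (by simpa [mul_assoc] using h5)⟩

variable {s} {s' : St A G} {c c' : G}

theorem Pair.symm (h : Pair s s' c c') : Pair s' s c' c :=
  ⟨h.cj.elim fun g e => ⟨g⁻¹, by rw [e, H42.cj_inv_cj]⟩, h.ne.symm, h.cK', h.cK, h.cc', h.c1', h.cc, h.c1, h.comm.symm⟩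

theorem Pair.disj (h : Pair s s' c c') {u : G} (hu : u ∈ s.K) (hu' : u ∈ s'.K) (h2 : u * u = 1) :
    u = 1 := by_contra fun h1 => by
  obtain ⟨g, e⟩ := h.cj
  rw [St.K, e, ← H42.cj_centralizer, H42.mem_cj] at hu'
  exact h.ne (e.trans (H42.cj_eq_iff_mem_normalizer.2 (inv_mem_iff.1 (s.tight _ u hu h2 h1 (by rwa [inv_inv])))))

theorem Pair.raP1 (m : MF A) (h : Pair s s' c c') : ¬ s.L ≤ s'.N := fun hL => by
  have := m.simple
  have hc := s.cen_le h.cK h.cc h.c1 h.comm.symm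
  obtain ⟨γ, hγ⟩ := s.ind_ex m hc
  have hM : ((s'.K.subgroupOf s.L).map s.ρ).Normal :=
    Normal.map (H := s'.K.subgroupOf s.L) ⟨fun x hx g => s'.conj_K (hL g.2) hx⟩ _ s.onto
  obtain e | e := hM.eq_bot_or_eq_top
  · refine h.c1' (h.disj ((s.ind_one hc).1 fun l l' e' => ?_) h.cK' h.cc')
    have : l⁻¹ * l' ∈ s'.K.subgroupOf s.L := by
      have := mul_mem (s'.conj_K (hL l⁻¹.2) h.cK') (inv_mem h.cK')
      rw [mem_subgroupOf, coe_mul, ← e']
      simpa [mul_assoc] using this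
    have := mem_bot.1 (e.le ⟨_, this, rfl⟩)
    rwa [map_mul, map_inv, inv_mul_eq_one, eq_comm] at this
  obtain ⟨g, e'⟩ := h.symm.cj
  refine s'.std g (e' ▸ s.perf.ge.trans (commutator_le.2 fun a ha b hb => ?_))
  have k : ∀ a : s.L, ∃ x : s.L, (x : G) ∈ s'.K ∧ ∃ o ∈ center s.L, a = o * x := fun a => by
    obtain ⟨x, hx, e1⟩ := e.ge (mem_top (s.ρ a))
    exact ⟨x, hx, a * x⁻¹, s.kcen (by rw [MonoidHom.mem_ker, map_mul, map_inv, e1, mul_inv_cancel]),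
      (inv_mul_cancel_right _ _).symm⟩
  obtain ⟨x, hx, o, ho, e1⟩ := k ⟨a, ha⟩
  obtain ⟨y, hy, o', ho', e2⟩ := k ⟨b, hb⟩
  have : (⟨a, ha⟩ : s.L) * ⟨b, hb⟩ * ⟨a, ha⟩⁻¹ * ⟨b, hb⟩⁻¹ = x * y * x⁻¹ * y⁻¹ := by
    rw [e1, e2]
    calc o * x * (o' * y) * (o * x)⁻¹ * (o' * y)⁻¹ = o * (x * o' * y * x⁻¹) * o⁻¹ * y⁻¹ * o'⁻¹ := by group
      _ = o' * (x * y * x⁻¹ * y⁻¹) * o'⁻¹ := by rw [← mem_center_iff.1 ho, mem_center_iff.1 ho' x]; group
      _ = _ := by rw [← mem_center_iff.1 ho', mul_inv_cancel_right]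
  rw [commutatorElement_def, show a * b * a⁻¹ * b⁻¹ = x * y * (x : G)⁻¹ * (y : G)⁻¹ from congrArg Subtype.val this]
  exact mul_mem (mul_mem (mul_mem hx hy) (inv_mem hx)) (inv_mem hy)

theorem Pair.not_syl (m : MF A) (h : Pair s s' c c') {Q : Subgroup G} (hQ : IsPGroup 2 Q)
    (hL : Q ≤ s.L) (hc : 128 ≤ Nat.card Q) : ¬ Q ≤ s'.K := fun hK => by
  have h2 : ∀ q ∈ Q.subgroupOf s.L, ∃ k, q ^ 2 ^ k = 1 := fun q hq =>
    (hQ ⟨q, hq⟩).imp fun k e => Subtype.ext (congrArg (fun y : Q => (y : G)) e)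
  have hS := m.raSyl.of_card_le (R' := (Q.subgroupOf s.L).map s.ρ) le_top (hQ.comap_subtype.map _) (by
    rw [← Nat.card_congr (MonoidHom.ofInjective m.inj).toEquiv, card_T]
    refine hc.trans (Nat.card_le_card_of_injective (fun q : Q => (⟨s.ρ ⟨q, hL q.2⟩, _, q.2, rfl⟩ :
      (Q.subgroupOf s.L).map s.ρ)) fun a b e => ?_)
    obtain ⟨i, hi⟩ := h2 ⟨a, hL a.2⟩ a.2
    obtain ⟨j, hj⟩ := h2 ⟨b, hL b.2⟩ b.2
    exact Subtype.ext (congrArg (fun y : s.L => (y : G)) (s.two_eq hi hj (congrArg Subtype.val e))))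
  have hQY : (Q.subgroupOf s.L).map s.ρ ≤ (s'.N.subgroupOf s.L).map s.ρ := map_mono (comap_mono (hK.trans s'.K_le))
  have key : ∀ l q : s.L, q ∈ Q.subgroupOf s.L → s.ρ q * s.ρ q = 1 → s.ρ q ≠ 1 →
      s.ρ l * s.ρ q * (s.ρ l)⁻¹ ∈ (Q.subgroupOf s.L).map s.ρ → (l : G) ∈ s'.N := fun l q hq qq q1 ⟨q', hq', e⟩ => by
    obtain ⟨i, hi⟩ := h2 q hq
    obtain ⟨j, hj⟩ := h2 q' hq'
    obtain ⟨k, hk⟩ := h2 _ (mul_mem hq hq)
    have e1 := s.two_eq (l' := l * q * l⁻¹) hj (j := i) (by rw [conj_pow, hi]; group)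
      (by rw [e, map_mul, map_mul, map_inv])
    exact s'.tight l q (hK hq) (congrArg Subtype.val (s.two_eq hk (one_pow (2 ^ 0)) (by rw [map_mul, qq, map_one])))
      (fun c => q1 (by rw [show q = 1 from Subtype.ext c, map_one])) (hK (show _ ∈ Q.subgroupOf s.L from e1 ▸ hq'))
  obtain ⟨b, -, hb⟩ := hS.exists_conj_mem (ra_two (g := m.ι z) (k := 3) (by
    rw [← map_pow]; exact (congrArg m.ι (pow8 z)).trans (map_one _))) le_top
  have z2 : orderOf (b * m.ι z * b⁻¹) = 2 := ((MulAut.conj b).orderOf_eq _).trans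
    ((orderOf_injective _ m.inj z).trans (orderOf_eq_prime (by decide +kernel) (by decide +kernel)))
  have sq : ∀ {t : A}, orderOf t = 2 → ∀ y, y * t * y⁻¹ * (y * t * y⁻¹) = 1 ∧ y * t * y⁻¹ ≠ 1 := fun {t} ht y =>
    ⟨by rw [conj_mul, ← pow_two, ← ht, pow_orderOf_eq_one]; group, fun e => by
      rw [show t = 1 by simpa using e, orderOf_one] at ht; omega⟩
  refine STD.not_se (a := m.ι e2) (b := m.ι f1)
    ((orderOf_injective _ m.inj _).trans (orderOf_eq_prime (by decide +kernel) (by decide +kernel)))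
    ((orderOf_injective _ m.inj _).trans (orderOf_eq_prime (by decide +kernel) (by decide +kernel)))
    (by rw [← map_mul, orderOf_injective _ m.inj]
        exact orderOf_eq_prime_pow (p := 2) (n := 1) (by decide +kernel) (by decide +kernel))
    (H8.isStronglyEmbedded_iff.2 ⟨fun e => h.raP1 m fun l hl => ?_, even_iff_two_dvd.2
      (z2 ▸ orderOf_dvd_natCard _ (hQY (hb _ (mem_zpowers _)))), fun t ht t2 g hg => ?_⟩)
  · obtain ⟨x, hx, e1⟩ := e.ge (mem_top (s.ρ ⟨l, hl⟩))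
    obtain ⟨q, hq, e2⟩ := hb _ (mem_zpowers _)
    have := sq z2 1
    rw [one_mul, inv_one, mul_one, ← e2] at this
    exact (s'.N.mul_mem_cancel_right (s'.N.inv_mem hx)).1 (key (⟨l, hl⟩ * x⁻¹) q hq this.1 this.2 ⟨q, hq, by
      rw [map_mul, map_inv, e1, mul_inv_cancel, one_mul, inv_one, mul_one]⟩)
  · have hY := hS.of_le hQY le_top
    have p2 : ∀ {t : A}, orderOf t = 2 → IsPGroup 2 (zpowers t) := fun ht =>
      ra_two (k := 1) (by rw [pow_one, ← ht, pow_orderOf_eq_one])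
    obtain ⟨y, hy, e1⟩ := hY.exists_conj_mem (p2 t2) (zpowers_le.2 ht)
    obtain ⟨y', hy', e2⟩ := hY.exists_conj_mem (p2 (((MulAut.conj g).orderOf_eq t).trans t2)) (zpowers_le.2 hg)
    obtain ⟨q, hq, e3⟩ := e1 t (mem_zpowers t)
    obtain ⟨l, e4⟩ := s.onto (y' * g * y⁻¹)
    have := key l q hq (e3 ▸ (sq t2 y).1) (e3 ▸ (sq t2 y).2) (by
      rw [e3, e4, show y' * g * y⁻¹ * (y * t * y⁻¹) * (y' * g * y⁻¹)⁻¹ = y' * (g * t * g⁻¹) * y'⁻¹ by group]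
      exact e2 _ (mem_zpowers _))
    exact (mul_mem_cancel_left hy').1 ((mul_mem_cancel_right (inv_mem hy)).1 ⟨l, this, e4⟩)

end Cfsg.Agent.WR
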