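import Cfsg.Agent.WR.RedA
import Cfsg.Agent.H21.PAct

/-! Project WR: pairs of conjugates of `L` with an involution inducing an inner automorphism. -/

set_option autoImplicit false
set_option maxRecDepth 100000
set_option linter.unusedSectionVars false

namespace Cfsg.Agent.WR

open Subgroup Cfsg.Agent.H78
open Cfsg.Agent.H42 (SylIn cj)

variable {A G : Type*} [Group A] [Group G] [Finite A] [Finite G] {s s' : St A G} {c c' : G}

/-- an outer automorphism fixes no elementary subgroup of order eight -/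
theorem MF.rbFix (m : MF A) {γ : MulAut A} (hi : ¬ ∃ a, γ = MulAut.conj a) {V : Subgroup A}
    (sq : ∀ v ∈ V, v * v = 1) (h : ∀ v ∈ V, γ v = v) : Nat.card V ≤ 4 := by
  obtain ⟨_, -, k, -, -, hk, -, -, n, ⟨n, rfl⟩, rfl⟩ := exists_parts γ
  have h1 : ∀ i : ℕ, ∀ v ∈ V, (γ ^ i) v = v := fun i e he => by
    induction i with
    | zero => rfl
    | succ i ih => rw [pow_succ, MulAut.mul_apply, h e he, ih]
  obtain ⟨a, ha⟩ := m.autSyl (IsPGroup.to_sup_of_normal_left' (IsPGroup.map (H := V)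
    (fun v => ⟨1, Subtype.ext (by rw [pow_one, coe_pow, pow_two, sq _ v.2]; rfl)⟩) MulAut.conj)
    (ra_two hk) (zpowers_le.2 (H42.mem_normalizer_of_conj_mem (by
      rintro _ ⟨x, hx, rfl⟩
      exact ⟨x, hx, by rw [ra_conj, h1 _ x hx]⟩))))
  have h2 : cj a V ≤ m.ι.range := by
    rintro _ ⟨e, he, rfl⟩
    obtain ⟨x, e'⟩ | ⟨c, -⟩ := ha _ (mem_sup_left ⟨e, he, rfl⟩)
    · exact ⟨x, m.raInj (by rw [← e', ra_conj]; rfl)⟩
    · exact (c ⟨_, rfl⟩).elim
  obtain ⟨x, e⟩ | ⟨-, β, hβ, e⟩ := ha _ (mem_sup_right (mem_zpowers _))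
  · obtain ⟨b, hb⟩ := ((m.sq_inn γ γ).resolve_left hi).resolve_left hi
    rw [pow_succ, pow_mul, pow_two, hb, mul_inv_eq_iff_eq_mul, ← eq_inv_mul_iff_mul_eq, ← eq_inv_mul_iff_mul_eq] at e
    exact (hi ⟨_, by rw [e, ← map_pow, ← map_inv, ← map_inv, ← map_mul, ← map_mul, ← map_mul]⟩).elim
  have := sw_elem hβ (A := (cj a V).comap m.ι) (by
      rintro x ⟨d, hd, e'⟩
      exact m.inj (by rw [map_mul, ← e', ← map_mul, sq d hd, map_one, map_one])) (by
      rintro x ⟨d, hd, e'⟩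
      refine m.inj ?_
      rw [← e, ← e', MulAut.mul_apply, MulAut.mul_apply]
      exact congrArg _ ((congrArg _ (MulAut.inv_apply_self A _ _)).trans (h1 _ d hd)))
  rwa [← card_map_of_injective m.inj, map_comap_eq_self h2, H42.card_cj] at this

/-- the labelling twisted by an automorphism -/
def St.tw (s : St A G) (γ : MulAut A) : St A G :=
  have e : (γ.toMonoidHom.comp s.ρ).ker = s.ρ.ker := MonoidHom.ker_comp_of_injective _ _ γ.injective
  { s with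
    ρ := γ.toMonoidHom.comp s.ρ
    onto := γ.surjective.comp s.onto
    kodd := e ▸ s.kodd
    kcen := e ▸ s.kcen }

theorem St.rbInn (s : St A G) {n : G} : s.Inn n ↔ n ∈ s.K ⊔ s.L := by
  refine ⟨fun ⟨k, hk, l, hl, e⟩ => e ▸ mul_mem_sup hk hl, fun h => ?_⟩
  obtain ⟨l, hl, k, hk, rfl⟩ := H42.exists_mul_of_mem_sup_centralizer (sup_comm s.K s.L ▸ h)
  exact ⟨k, hk, l, hl, mem_centralizer_iff.1 hk l hl⟩

theorem St.rbSq (s : St A G) (m : MF A) {n : G} (hn : n ∈ s.N) : n * n ∈ s.K ⊔ s.L := by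
  obtain ⟨γ, h⟩ := s.ind_ex m hn
  obtain e | e | e := m.sq_inn γ γ
  exacts [mul_mem (s.rbInn.1 ((s.inn_iff hn h).2 e)) (s.rbInn.1 ((s.inn_iff hn h).2 e)),
    mul_mem (s.rbInn.1 ((s.inn_iff hn h).2 e)) (s.rbInn.1 ((s.inn_iff hn h).2 e)),
    s.rbInn.1 ((s.inn_iff (mul_mem hn hn) (s.ind_mul hn h h)).2 e)]

theorem St.rbTwo (s : St A G) {Y : Subgroup G} {l : s.L} {k : ℕ} (hl : l ^ 2 ^ k = 1)
    (h : s.ρ l ∈ (Y.subgroupOf s.L).map s.ρ) : (l : G) ∈ Y := by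
  obtain ⟨y, hy, e⟩ := h
  obtain ⟨a, o, i, ha, ⟨n, rfl⟩, hi, ho, e', -⟩ := exists_parts y
  refine (s.two_eq hi hl ?_) ▸ zpowers_le.2 hy ha
  rw [← e, e', map_mul, eq_one_of_odd (o := s.ρ _) (ho.of_dvd_nat (orderOf_map_dvd _ _)) (k := k), mul_one]
  rw [map_zpow, e, ← zpow_natCast, ← zpow_mul, mul_comm, zpow_mul, zpow_natCast, ← map_pow, hl, map_one, one_zpow]

theorem St.rbOdd (s : St A G) {a : A} (h : Odd (orderOf a)) : ∃ o : s.L, Odd (orderOf (o : G)) ∧ s.ρ o = a := by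
  obtain ⟨y, rfl⟩ := s.onto a
  obtain ⟨_, o, i, ⟨n, rfl⟩, -, hi, ho, e, -⟩ := exists_parts y
  refine ⟨o, orderOf_coe o ▸ ho, ?_⟩
  refine ((congrArg s.ρ e).trans ?_).symm
  rw [map_mul, eq_one_of_odd (o := s.ρ (y ^ n)) (h.of_dvd_nat ?_) (k := i) (by rw [← map_pow, hi, map_one]), one_mul]
  exact orderOf_dvd_of_mem_zpowers ⟨n, (map_zpow _ _ _).symm⟩

theorem St.rbComm (s : St A G) (m : MF A) {n n' : G} {γ : MulAut A} {a : A} (hn : n ∈ s.N) (hn' : n' ∈ s.N)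
    (h : s.Ind n γ) (h' : s.Ind n' (MulAut.conj a)) (c : Commute n n') : γ a = a :=
  m.raInj (by rw [← ra_conj, s.ind_unique (mul_mem hn hn') (s.ind_mul hn' h h') (c.eq ▸ s.ind_mul hn h' h),
    mul_inv_cancel_right])

theorem St.rbFixInd (s : St A G) {n : G} {γ : MulAut A} (h : s.Ind n γ) {l : s.L} (c : Commute n l) :
    γ (s.ρ l) = s.ρ l := (h l l (by rw [c.eq, mul_inv_cancel_right])).symm

theorem Pair.rbTwo (h : Pair s s' c c') {u : G} (hu : u ∈ s.K) (hu' : u ∈ s'.K) {k : ℕ} (h2 : u ^ 2 ^ k = 1) :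
    u = 1 := by
  induction k with
  | zero => simpa using h2
  | succ k ih => exact ih (h.disj (pow_mem hu _) (pow_mem hu' _) (by rw [← h2, pow_succ, pow_mul, pow_two]))

theorem Lf.rbPow {m : MF A} {j : T →* G} (h : Lf m s j) (x : T) : (⟨j x, h.mem x⟩ : s.L) ^ 2 ^ 3 = 1 :=
  Subtype.ext (by rw [coe_pow, ← map_pow]; exact (congrArg j (pow8 x)).trans (map_one j))

theorem rb_z (m : MF A) (x : T) : Commute (m.ι x) (m.ι z) := Commute.map ((mem_center z).2 (Or.inr rfl) x) m.ι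

theorem rb_card {u : G} (h : u * u = 1) (h1 : u ≠ 1) : Nat.card (zpowers u) = 2 := by
  rw [Nat.card_zpowers, orderOf_eq_prime (by rwa [sq]) h1]

theorem rb_ne (H K : Subgroup G) : H.relIndex K ≠ 0 := index_ne_zero_of_finite

/-- eight elements of `E` avoiding `z` -/
def rbU : Subgroup T := sub 113 (by decide +kernel)

theorem rbU_card : Nat.card rbU = 8 := card_of (Zr 113) 8 (by decide +kernel)

theorem rbU_facts : ∀ x : T, Zr 113 x → x * x = 1 ∧ x ≠ z := by decide +kernel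

/-- `c'` induces the inner automorphism `ι z` -/
structure Sd (m : MF A) (s s' : St A G) (c c' k : G) (l : s.L) : Prop extends Pair s s' c c' where
  kK : k ∈ s.K
  kk : k * k = 1
  ll : l * l = 1
  eq : c' = k * l
  hz : s.ρ l = m.ι z

theorem Pair.exists_sd (m : MF A) (h : Pair s s' c c') (h2 : s.Inn c') :
    ∃ γ k l, ∀ δ, Sd m (s.tw γ) (s'.tw δ) c c' k l := by
  obtain ⟨k, hk, l, hl, kk, ll, e⟩ := s.inn_inv m h2 h.cc'
  have ll' : (⟨l, hl⟩ : s.L) * ⟨l, hl⟩ = 1 := Subtype.ext ll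
  obtain ⟨b, hb⟩ := m.invA (a := s.ρ ⟨l, hl⟩) (by rw [← map_mul, ll', map_one]) fun c => h.c1' (h.disj (by
    rw [e, show l = 1 from congrArg Subtype.val (s.two_eq (i := 1) (by rwa [pow_one, sq]) (one_pow (2 ^ 0))
      (c.trans (map_one _).symm)), mul_one]
    exact hk) h.cK' h.cc')
  exact ⟨MulAut.conj b, k, ⟨l, hl⟩, fun δ =>
    ⟨⟨h.cj, h.ne, h.cK, h.cK', h.cc, h.c1, h.cc', h.c1', h.comm⟩, hk, kk, ll', e, hb⟩⟩

namespace Sd

variable {m : MF A} {k k' : G} {l : s.L} {l' : s'.L} (h : Sd m s s' c c' k l)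
include h

theorem ind : s.Ind c' (MulAut.conj (m.ι z)) := by
  have := s.ind_mul (le_normalizer l.2) ((s.ind_one (s.K_le h.kK)).2 h.kK) (s.ind_conj l)
  rwa [one_mul, h.hz, ← h.eq] at this

theorem cen {b : s.L} (hb : Commute (s.ρ b) (m.ι z)) : Commute (b : G) c' := by
  have := s.two_eq (l := b * l * b⁻¹) (i := 1) (j := 1) (by rw [conj_pow, pow_one, sq, h.ll]; group)
    (by rw [pow_one, sq, h.ll]) (by rw [map_mul, map_mul, map_inv, h.hz, hb.eq, mul_inv_cancel_right])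
  exact h.eq ▸ Commute.mul_right (mem_centralizer_iff.1 h.kK b b.2)
    (congrArg Subtype.val (mul_inv_eq_iff_eq_mul.1 this))

theorem memN {b : s.L} (hb : Commute (s.ρ b) (m.ι z)) : (b : G) ∈ s'.N := s'.cen_le h.cK' h.cc' h.c1' (h.cen hb)

theorem n3 {Y : Subgroup G} (hY : ∀ b : s.L, Commute (s.ρ b) (m.ι z) → (b : G) * b ∈ Y) :
    centralizer {m.ι z} ≤ (Y.subgroupOf s.L).map s.ρ := m.N3 _ fun a ha ho => by
  obtain ⟨o, ho', rfl⟩ := s.rbOdd ho
  exact ⟨o, mem_of_sq_mem (K := Y) ho' (hY o ha), rfl⟩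

theorem inn {b : s.L} (hb : Commute (s.ρ b) (m.ι z)) : s'.Inn b := by
  obtain ⟨y, hy, e⟩ := h.n3 (fun b hb => s'.rbSq m (h.memN hb)) (mem_centralizer_singleton_iff.2 hb)
  have e1 : s.ρ (b * y⁻¹) = 1 := by rw [map_mul, map_inv, e, mul_inv_cancel]
  exact s'.rbInn.2 ((mul_mem_cancel_right (inv_mem hy)).1 (mem_of_sq_mem (orderOf_coe (b * y⁻¹) ▸ s.raOdd e1)
    (s'.rbSq m (h.memN (e1 ▸ Commute.one_left _)))))

theorem no2 : ¬ centralizer {m.ι z} ≤ (s'.K.subgroupOf s.L).map s.ρ := fun hc => by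
  obtain ⟨j, hj⟩ := s.exists_lf m
  refine h.not_syl m (T_two.of_surjective _ j.rangeRestrict_surjective) (by rintro _ ⟨x, rfl⟩; exact hj.mem x) ?_ (by
    rintro _ ⟨x, rfl⟩
    exact s.rbTwo (hj.rbPow x) (hj.eq x ▸ hc (mem_centralizer_singleton_iff.2 (rb_z m x))))
  rw [← Nat.card_congr (MonoidHom.ofInjective fun a b e => m.inj ?_).toEquiv, card_T]
  rw [← hj.eq, ← hj.eq]; exact congrArg _ (Subtype.ext e)

theorem tri {j : T →* G} (hj : Lf m s j) :
    (∀ b : s.L, Commute (s.ρ b) (m.ι z) → (b : G) ∈ s'.K → s.ρ b ∈ zpowers (m.ι z)) ∨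
      ((∀ e ∈ E, j e ∈ s'.K) ∧ ∀ γ : MulAut A, ∃ a, γ = MulAut.conj a) := by
  obtain e | e | ⟨e, e'⟩ := m.N2 (centralizer {m.ι z} ⊓ (s'.K.subgroupOf s.L).map s.ρ) inf_le_left (by
    rintro a ha _ ⟨h1, x, hx, rfl⟩
    obtain ⟨a, rfl⟩ := s.onto a
    have := mem_centralizer_singleton_iff.2 ha
    exact ⟨(centralizer _).mul_mem ((centralizer _).mul_mem this h1) ((centralizer _).inv_mem this), a * x * a⁻¹, s'.conj_K (h.memN ha) hx,
      by rw [map_mul, map_mul, map_inv]⟩)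
  · exact Or.inl fun b hb hK => e ⟨mem_centralizer_singleton_iff.2 hb, b, hK, rfl⟩
  · exact (h.no2 (e.trans inf_le_right)).elim
  · exact Or.inr ⟨fun x hx => s.rbTwo (hj.rbPow x) (hj.eq x ▸ (e x hx).2), e'⟩

theorem alt3 {j : T →* G} (hj : Lf m s' j) : ¬ ∀ e ∈ E, j e ∈ s.K := fun he => h.no2 (h.n3 fun b hb => by
  obtain ⟨γ, hγ⟩ := s'.ind_ex m (h.memN hb)
  obtain ⟨e, he', rfl⟩ := m.autC (Or.inl rfl) (γ := γ) fun e he' =>
    hj.eq e ▸ s'.rbFixInd hγ (mem_centralizer_iff.1 (he e he') b b.2)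
  have := s'.ind_mul (h.memN hb) hγ hγ
  rwa [← map_mul, ← map_mul, (E_facts e he').1, map_one, map_one, s'.ind_one (mul_mem (h.memN hb) (h.memN hb))] at this)

theorem cN : c ∈ s'.N := s'.cen_le h.cK' h.cc' h.c1' h.comm

theorem onto (h' : Sd m s' s c' c k' l')
    (h1 : ∀ b : s.L, Commute (s.ρ b) (m.ι z) → (b : G) ∈ s'.K → s.ρ b ∈ zpowers (m.ι z)) {a : A}
    (ha : Commute a (m.ι z)) : ∃ b ∈ s.L, b ∈ s'.N ∧ s'.Ind b (MulAut.conj a) := by
  obtain ⟨π, hπ⟩ := s'.exists_pi m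
  let B := (centralizer {m.ι z}).comap s.ρ
  have hB : ∀ b : B, ((b : s.L) : G) ∈ s'.N := fun b => h.memN (mem_centralizer_singleton_iff.1 b.2)
  let f := π.comp ((s.L.subtype.comp B.subtype).codRestrict _ hB)
  have hf : ∀ b : B, s'.Ind (b : s.L) (f b) := fun b => hπ ⟨_, hB b⟩
  have h2 : f.range ≤ (centralizer {m.ι z}).map MulAut.conj := by
    rintro _ ⟨b, rfl⟩
    obtain ⟨x, e⟩ := (s'.inn_iff (hB b) (hf b)).1 (h.inn (mem_centralizer_singleton_iff.1 b.2))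
    have := s'.rbComm m (hB b) h.cN (hf b) h'.ind (mem_centralizer_iff.1 h.cK _ (b : s.L).2)
    exact ⟨x, mem_centralizer_singleton_iff.2 (mul_inv_eq_iff_eq_mul.1 (by rwa [e] at this)), e.symm⟩
  obtain ⟨q, hq⟩ : (zpowers (m.ι z)).relIndex (centralizer {m.ι z}) ∣ Nat.card f.range := by
    rw [← map_comap_eq_self_of_surjective s.onto (centralizer _), ← relIndex_comap, ← index_ker]
    exact index_dvd_of_le fun b hb => h1 b (mem_centralizer_singleton_iff.1 b.2)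
      ((s'.ind_one (hB b)).1 (MonoidHom.mem_ker.1 hb ▸ hf b))
  have h3 := H42.card_mul_relIndex h2
  rw [card_map_of_injective m.raInj, ← H42.card_mul_relIndex (zpowers_le.2 (mem_centralizer_singleton_iff.2 rfl)),
    hq, rb_card (by rw [← map_mul, (E_facts z (by decide +kernel)).1, map_one])
      ((map_ne_one_iff _ m.inj).2 (by decide +kernel)), mul_assoc, mul_comm 2,
    Nat.mul_right_inj (rb_ne _ _)] at h3
  obtain ⟨b, e⟩ := m.N3 (f.range.comap MulAut.conj) (fun x hx ho => by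
    obtain ⟨n, n0, n2, hn, -⟩ := exists_pow_mem_of_relIndex_ne_zero (H := f.range)
      (rb_ne _ _) (mem_map_of_mem MulAut.conj (mem_centralizer_singleton_iff.2 hx))
    obtain rfl | rfl : n = 1 ∨ n = 2 := by have := Nat.le_of_dvd two_pos (Dvd.intro_left _ h3); omega
    · rwa [pow_one] at hn
    · exact mem_of_sq_mem ho (by rwa [sq, ← map_mul] at hn)) (mem_centralizer_singleton_iff.2 ha)
  exact ⟨_, (b : s.L).2, hB b, e ▸ hf b⟩

theorem alt1 (h' : Sd m s' s c' c k' l')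
    (h1 : ∀ b : s.L, Commute (s.ρ b) (m.ι z) → (b : G) ∈ s'.K → s.ρ b ∈ zpowers (m.ι z)) :
    ¬ 4 ∣ Nat.card s.K := by
  have key : ∀ r ∈ s.K, ∀ i : ℕ, r ^ 2 ^ i = 1 → Commute r c → Commute r c' → r = 1 ∨ r = c := by
    intro r hr i hi c1 c2
    have hN := s'.cen_le h.cK' h.cc' h.c1' c2
    obtain ⟨γ, hγ⟩ := s'.ind_ex m hN
    have hx : ∀ x, γ (m.ι x) = m.ι x := fun x => by
      obtain ⟨b, hb, hb', e⟩ := h.onto h' h1 (rb_z m x)
      exact s'.rbComm m hN hb' hγ e (mem_centralizer_iff.1 hr b hb).symm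
    obtain ⟨e, -, rfl⟩ := m.autC (Or.inl rfl) fun e _ => hx e
    obtain rfl | rfl := (mem_center e).1 fun x => m.inj (by
      rw [map_mul, map_mul]; exact (mul_inv_eq_iff_eq_mul.1 (hx x)).symm)
    · rw [map_one, map_one, s'.ind_one hN] at hγ
      exact Or.inl (h.toPair.rbTwo hr hγ hi)
    · have := s'.ind_mul h.cN hγ h'.ind
      rw [← map_mul, ← map_mul, (E_facts z (by decide +kernel)).1, map_one, map_one,
        s'.ind_one (mul_mem hN h.cN)] at this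
      refine Or.inr (mul_right_cancel ((h.toPair.rbTwo (mul_mem hr h.cK) this (k := i + 1) ?_).trans h.cc.symm))
      rw [c1.mul_pow, pow_succ, pow_mul, hi, mul_comm, pow_mul, one_pow, sq, h.cc, one_pow, one_mul]
  have hl : ∀ r ∈ s.K, Commute r l := fun r hr => (mem_centralizer_iff.1 hr l l.2).symm
  have key2 : ∀ r ∈ s.K, ∀ i : ℕ, r ^ 2 ^ i = 1 → Commute r c → r = 1 ∨ r = c := fun r hr i hi c1 => by
    refine key r hr i hi c1 (h.eq ▸ Commute.mul_right ?_ (hl r hr))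
    obtain rfl | rfl := key k h.kK 1 (by rw [pow_one, sq, h.kk]) (by
      rw [eq_mul_inv_of_mul_eq h.eq.symm]
      exact Commute.mul_left h.comm.symm (hl c h.cK).symm.inv_left)
      (h.eq ▸ Commute.mul_right rfl (hl k h.kK))
    exacts [Commute.one_right _, c1]
  obtain ⟨Q, hQ, hc⟩ := H42.exists_sylIn (ra_two (k := 1) (by rw [pow_one, sq, h.cc])) (zpowers_le.2 h.cK)
  have key3 : ∀ r ∈ Q, Commute r c → r = 1 ∨ r = c := fun r hr => by
    obtain ⟨i, hi⟩ := hQ.isP ⟨r, hr⟩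
    exact key2 r (hQ.le hr) i (congrArg Subtype.val hi)
  obtain ⟨⟨u, hu, hu'⟩, u1⟩ := ne_bot_iff_exists_ne_one.1 (H21.inf_centralizer_ne_bot_of_isPGroup hQ.isP Q hQ.isP
    le_normalizer fun e => h.c1 (mem_bot.1 (e ▸ zpowers_le.1 hc)))
  obtain rfl := (key3 u hu (mem_centralizer_iff.1 hu' c (zpowers_le.1 hc)).symm).resolve_left
    fun e => u1 (Subtype.ext e)
  obtain rfl : Q = zpowers u := le_antisymm (fun r hr => by
    obtain rfl | rfl := key3 r hr (mem_centralizer_iff.1 hu' r hr)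
    exacts [one_mem _, mem_zpowers _]) hc
  rw [← H42.card_mul_relIndex hQ.le, rb_card h.cc h.c1]
  exact fun e => hQ.ndvd (Nat.dvd_of_mul_dvd_mul_left two_pos e)

end Sd

theorem Pair.p3 (m : MF A) (h : Pair s s' c c') (h1 : s'.Inn c) : s.Inn c' := by
  obtain ⟨δ, k, l, h'⟩ := h.symm.exists_sd m h1
  replace h' := h' 1
  obtain ⟨π, hπ⟩ := (s.tw 1).exists_pi m
  obtain ⟨j, hj⟩ := (s'.tw δ).exists_lf m
  have hN : ∀ x, j x ∈ (s.tw 1).N := fun x => h'.memN (b := ⟨j x, hj.mem x⟩) (hj.eq x ▸ rb_z m x)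
  by_contra hn
  have hi : ¬ ∃ a, π ⟨c', h'.cN⟩ = MulAut.conj a := fun e => hn (((s.tw 1).inn_iff h'.cN (hπ ⟨c', h'.cN⟩)).2 e)
  obtain e | ⟨-, e⟩ := h'.tri hj
  swap
  · exact hi (e _)
  let ψ := (π.comp (j.codRestrict _ hN)).comp rbU.subtype
  have hψ : ∀ x : rbU, (s.tw 1).Ind (j x) (ψ x) := fun x => hπ ⟨j x, hN x⟩
  have inj : Function.Injective ψ := (injective_iff_map_eq_one _).2 fun x hx => by
    have := e ⟨j x, hj.mem x⟩ (hj.eq x ▸ rb_z m x) (((s.tw 1).ind_one (hN x)).1 (hx ▸ hψ x))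
    rw [hj.eq, ← MonoidHom.map_zpowers, mem_map_iff_mem m.inj] at this
    exact Subtype.ext (((mem_center _).1 fun g => (mem_centralizer_singleton_iff.1
      (zpowers_le.2 (mem_centralizer_singleton_iff.2 ((mem_center z).2 (Or.inr rfl) g).symm) this)).symm).resolve_right
      (rbU_facts _ x.2).2)
  have hle : ψ.range ≤ (MulAut.conj : A →* MulAut A).range := by
    rintro _ ⟨x, rfl⟩
    obtain ⟨a, ha⟩ := ((s.tw 1).inn_iff (hN x) (hψ x)).1 (h'.inn (b := ⟨j x, hj.mem x⟩) (hj.eq x ▸ rb_z m x))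
    exact ⟨a, ha.symm⟩
  have := m.rbFix hi (V := ψ.range.comap MulAut.conj) (by
      rintro v ⟨x, hx⟩
      exact m.raInj (by rw [map_mul, ← hx, ← map_mul, show x * x = 1 from Subtype.ext (rbU_facts _ x.2).1,
        map_one, map_one])) (by
      rintro v ⟨x, hx⟩
      exact (s.tw 1).rbComm m h'.cN (hN x) (hπ ⟨c', h'.cN⟩) (hx ▸ hψ x)
        (mem_centralizer_iff.1 h.cK' _ (hj.mem x)).symm)
  rw [← card_map_of_injective m.raInj, map_comap_eq_self hle,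
    ← Nat.card_congr (MonoidHom.ofInjective inj).toEquiv, rbU_card] at this
  omega

theorem Pair.p4 (m : MF A) (h : Pair s s' c c') (h1 : s'.Inn c) (h2 : s.Inn c') :
    SylIn 2 (zpowers s.t) s.K := by
  obtain ⟨γ, k, l, hs⟩ := h.exists_sd m h2
  obtain ⟨δ, k', l', hs'⟩ := h.symm.exists_sd m h1
  obtain ⟨j, hj⟩ := (s.tw γ).exists_lf m
  obtain e | ⟨e, -⟩ := (hs δ).tri hj
  · refine ⟨zpowers_le.2 s.tK, ra_two (k := 1) (by rw [pow_one, sq, s.tt]), fun e' => (hs δ).alt1 (hs' γ) e ?_⟩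
    change _ ∣ Nat.card s.K
    rw [← H42.card_mul_relIndex (zpowers_le.2 s.tK), rb_card s.tt s.t1]
    exact Nat.mul_dvd_mul_left 2 e'
  · exact ((hs' γ).alt3 hj e).elim

end Cfsg.Agent.WR
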