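import Cfsg.Agent.WR.Cen
import Cfsg.Agent.WR.Split1

/-! Project WR: `F*` normalises the summands of `E*`. -/

set_option autoImplicit false
set_option linter.unusedSectionVars false
set_option maxRecDepth 100000

namespace Cfsg.Agent.WR

open Subgroup Cfsg.Agent.H78 Cfsg.Agent.H14
open Cfsg.Agent.H42 (SylIn cj mem_normalizer_of_conj_mem conj_mem_of_mem_normalizer)

variable {G : Type*} [Group G] [Finite G] {c : Cf G} {Es Fs : Subgroup G} {s : T → G}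

namespace Sp2

def m (x e : T) : T := x * e * x⁻¹ * e
def st (x : T) (p : T × T) : T × T := (x * p.1 * x⁻¹ * m x p.2, m x p.1 * p.2)
def τ (e : T) : T := e * m f0 (m σ e)

theorem d1 : ∀ u, u ∈ E → ∀ v, v ∈ E → st f0 (st σ (st (f0 * σ) (u, v))) = (τ u, τ v) ∧
    τ u * τ (u * v) = τ v := by decide +kernel
theorem d2 : ∀ u, u ∈ E → (Zr 120 u → τ u = u) ∧ τ u ∈ E ∧ τ (τ u) = u := by decide +kernel
theorem d3 : ∀ a, a ∈ W → ∃ f, f ∈ F ∧ a1 f = f ∧ m f e1 = a ∧ f * e1 * f⁻¹ = e1 * a := by decide +kernel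
theorem d4 : ∀ f, f ∈ F → a1 f = f → ∀ e, e ∈ E → a1 (f * e * f⁻¹) = f * a1 e * f⁻¹ ∧
    a1 (m f e) = m f (a1 e) := by decide +kernel
theorem d5 : ∀ e, e ∈ E → ∃ w, w ∈ W ∧ (e = 1 * w ∨ e = e1 * w ∨ e = a1 (a1 e1) * w ∨
    e = a1 (a1 (a1 (a1 e1))) * w) := by decide +kernel
theorem d6 : ∀ f, f ∈ F → ∀ e, e ∈ E → f * m f0 e * f⁻¹ = m f0 e ∧ ∀ w, w ∈ W →
    f * (e * w) * f⁻¹ = f * e * f⁻¹ * w ∧ m f (e * w) = m f e := by decide +kernel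
theorem d7 : ∀ f, f ∈ F → ∀ g, g ∈ F → σ * m f e1 * σ⁻¹ = m f (g * (σ * e1 * σ⁻¹) * g⁻¹) →
    (∀ e, e ∈ E → m f e = 1) ∨ ∀ e, e ∈ E → m f e = m f0 e := by decide +kernel
theorem d8 : ∀ f, f ∈ F → (1 * f ∈ W ∨ f0 * f ∈ W ∨ a2 f0 * f ∈ W ∨ a2 (a2 f0) * f ∈ W) ∧
    a1 f ∈ F ∧ a1 f * f ∈ W := by decide +kernel
theorem d9 : σ * σ = 1 ∧ σ ∉ E ∧ (f0 * σ) * (f0 * σ) = 1 ∧ f0 * σ ∉ E ∧ σ * f0 * σ⁻¹ = f0 ∧ f0 ∈ F ∧
    e1 ∈ E ∧ e2 ∈ E ∧ τ e2 ≠ e2 ∧ τ 1 = 1 ∧ f0 * f0 = 1 := by decide +kernel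
theorem d10 : ∀ e, e ∈ E → a1 e ∈ E ∧ a2 e ∈ E ∧ (∀ x, m x e ∈ E) ∧
    f0 * (f0 * e * f0⁻¹) * f0⁻¹ * (f0 * e * f0⁻¹) = m f0 e ∧
    f0 * (f0 * e * f0⁻¹) * f0⁻¹ * (f0 * m f0 e * f0⁻¹) * m f0 e = e := by decide +kernel
theorem d11 : ∀ w, w ∈ W → a1 w ∈ W ∧ ∀ f, f ∈ F → f * w * f⁻¹ = w := by decide +kernel

theorem WE {w : T} (hw : w ∈ W) : w ∈ E := ((mem_W w).1 hw).1
theorem WF {w : T} (hw : w ∈ W) : w ∈ F := ((mem_W w).1 hw).2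
theorem ιc (x y : T) : c.ι x * c.ι y * (c.ι x)⁻¹ = c.ι (x * y * x⁻¹) := by simp only [map_mul, map_inv]

theorem s1 (hs : Sp c Es s) : s 1 = 1 := by
  have := hs.mul 1 (one_mem _) 1 (one_mem _)
  rwa [mul_one, left_eq_mul] at this

theorem φq (hs : Sp c Es s) {u : T} (hu : u ∈ E) (v : T) :
    s u * c.ι v * c.t * (s u * c.ι v)⁻¹ = c.t * c.ι u := by
  rw [← hs.φ u hu, mul_assoc (s u), (c.ιt v).eq]; group

theorem uq (hs : Sp c Es s) {u u' v v' : T} (hu : u ∈ E) (hu' : u' ∈ E)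
    (e : s u * c.ι v = s u' * c.ι v') : u = u' ∧ v = v' := by
  have := φq hs hu v
  rw [e, φq hs hu'] at this
  obtain rfl := c.inj (mul_left_cancel this)
  exact ⟨rfl, c.inj (mul_left_cancel e)⟩

theorem lq (hs : Sp c Es s) {l : G} (hl : l ∈ c.Λ) {u u' v v' : T} (hu : u ∈ E) (hu' : u' ∈ E)
    (e1 : l * c.ι u * l⁻¹ = c.ι u') (e2 : l * c.ι v * l⁻¹ = c.ι v') :
    l * (s u * c.ι v) * l⁻¹ = s u' * c.ι v' := by
  rw [← hs.eqv l hl u hu u' hu' e1, ← e2]; group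

theorem sι (hs : Sp c Es s) (x : T) {e : T} (he : e ∈ E) : c.ι x * s e * (c.ι x)⁻¹ = s (x * e * x⁻¹) :=
  hs.eqv _ (c.toGF.ι_mem x) e he _ (Act.nmE x e he) (ιc x e)

/-- `g` normalises the first summand -/
def Ns (s : T → G) (g : G) : Prop := ∀ e ∈ E, ∃ e' ∈ E, g * s e * g⁻¹ = s e'

theorem Ns.mul {a b : G} (ha : Ns s a) (hb : Ns s b) : Ns s (a * b) := fun e he => by
  obtain ⟨e', he', k⟩ := hb e he
  obtain ⟨e'', he'', k'⟩ := ha e' he'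
  exact ⟨e'', he'', by rw [← k', ← k]; group⟩

theorem ns_l (hs : Sp c Es s) {l : G} (hl : l ∈ c.Λ) : Ns s l := fun e he =>
  let ⟨e', he', k⟩ := c.toGF.nE hl e he
  ⟨e', he', hs.eqv l hl e he e' he' k⟩

/-- the action on `E*` in coordinates -/
def Ra (c : Cf G) (s : T → G) (g : G) (θ : T × T → T × T) : Prop := ∀ p : T × T, p.1 ∈ E → p.2 ∈ E →
  g * (s p.1 * c.ι p.2) * g⁻¹ = s (θ p).1 * c.ι (θ p).2

theorem stE (x : T) {p : T × T} (h1 : p.1 ∈ E) (h2 : p.2 ∈ E) : (st x p).1 ∈ E ∧ (st x p).2 ∈ E :=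
  ⟨mul_mem (Act.nmE x _ h1) ((d10 _ h2).2.2.1 x), mul_mem ((d10 _ h1).2.2.1 x) h2⟩

theorem Ra.mul {g g' : G} {θ : T × T → T × T} {x : T} (h : Ra c s g θ) (h' : Ra c s g' (st x)) :
    Ra c s (g * g') (θ ∘ st x) := fun p h1 h2 => by
  rw [Function.comp_apply, ← h _ (stE x h1 h2).1 (stE x h1 h2).2, ← h' p h1 h2]; group

theorem Ra.tr (hs : Sp c Es s) {g l : G} {x : T} (h : Ra c s g (st f0)) (hl : l ∈ c.Λ)
    (e : l * c.ι x * l⁻¹ = c.ι f0) : Ra c s (l⁻¹ * g * l) (st x) := fun p h1 h2 => by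
  obtain ⟨u, hu, k1⟩ := c.toGF.nE hl _ h1
  obtain ⟨v, hv, k2⟩ := c.toGF.nE hl _ h2
  have := h (u, v) hu hv
  rw [← lq hs hl h1 hu k1 k2, ← lq hs hl (stE x h1 h2).1 (stE f0 (p := (u, v)) hu hv).1 (v := (st x p).2)
    (by simp only [st, m, map_mul, map_inv, ← e, ← k1, ← k2]; group)
    (by simp only [st, m, map_mul, map_inv, ← e, ← k1, ← k2]; group)] at this
  calc _ = l⁻¹ * (g * (l * (s p.1 * c.ι p.2) * l⁻¹) * g⁻¹) * l := by group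
    _ = _ := by rw [this]; group

variable (h : Sx c Es Fs) (hs : Sp c Es s)
include h hs

theorem qmul {u u' v : T} (hu : u ∈ E) (hu' : u' ∈ E) (hv : v ∈ E) (v' : T) :
    s u * c.ι v * (s u' * c.ι v') = s (u * u') * c.ι (v * v') := by
  rw [hs.mul u hu u' hu', map_mul, mul_assoc, ← mul_assoc (c.ι v),
    (h.e.comm _ (h.e.DR v hv) _ (hs.mem u' hu')).eq]; group

theorem tq {u : T} (hu : u ∈ E) (v : T) : c.t * (s u * c.ι v) * c.t = s u * c.ι (u * v) := by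
  rw [mul_assoc, mul_assoc, (c.ιt v).eq, ← mul_assoc, ← mul_assoc, tqt (hs.φ u hu),
    (h.e.comm _ (h.e.DR u hu) _ (hs.mem u hu)).eq, map_mul, mul_assoc]

theorem dec {a : G} (ha : a ∈ Es) : ∃ u ∈ E, ∃ v ∈ E, a = s u * c.ι v := by
  obtain ⟨u, hu, k⟩ := h.e.φ a ha
  obtain ⟨v, hv, k'⟩ := h.e.ker _ (mul_mem (inv_mem (hs.mem u hu)) ha) (comm_of_φ ((hs.φ u hu).trans k.symm))
  exact ⟨u, hu, v, hv, by rw [← k', mul_inv_cancel_left]⟩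

theorem sW {w : T} (hw : w ∈ W) : s w ∈ Fs := by
  by_cases w1 : w = 1
  · rw [w1, s1 hs]; exact one_mem _
  refine h.f.max _ (h.e.sq _ (hs.mem w (WE hw))) (fun f hf => ?_) (h.e.cO _ (hs.mem w (WE hw)))
    ⟨w, WF hw, w1, hs.φ w (WE hw)⟩
  have := sι hs f (WE hw)
  rw [(d11 w hw).2 f hf] at this
  exact (mul_inv_eq_iff_eq_mul.1 this).symm

theorem decF {y : G} (hy : y ∈ Fs) {w : T} (hw : w ∈ W) (k : y * c.t * y⁻¹ = c.t * c.ι w) :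
    ∃ f ∈ F, y = s w * c.ι f := by
  obtain ⟨v, hv, k'⟩ := h.f.ker _ (mul_mem (inv_mem (sW h hs hw)) hy)
    (comm_of_φ ((hs.φ w (WE hw)).trans k.symm))
  exact ⟨v, hv, by rw [← k', mul_inv_cancel_left]⟩

theorem decW {a : G} (ha : a ∈ Es ⊓ Fs) : ∃ u ∈ W, ∃ v ∈ W, a = s u * c.ι v := by
  obtain ⟨u, hu, v, hv, e⟩ := dec h hs ha.1
  obtain ⟨f, hf, k⟩ := h.f.φ a ha.2
  have k' := k
  rw [e, φq hs hu] at k'
  obtain rfl := c.inj (mul_left_cancel k')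
  have uW := (mem_W u).2 ⟨hu, hf⟩
  obtain ⟨f, hf, e'⟩ := decF h hs ha.2 uW k
  obtain ⟨-, rfl⟩ := uq hs hu hu (e.symm.trans e')
  exact ⟨u, uW, v, (mem_W v).2 ⟨hv, hf⟩, e⟩

theorem kk {y : G} (hy : y ∈ Fs) : c.h1 * (c.h1 * y * c.h1⁻¹) * c.h1⁻¹ * y ∈ Es := by
  have ht := c.Lt _ c.toGF.h1_mem
  obtain ⟨f, hf, k⟩ := h.f.φ y hy
  have m1 : c.h1 * y * c.h1⁻¹ ∈ Fs := Split1.nrm h.f ht
    (fun f hf => ⟨_, (d8 f hf).2.1, c.c1 f (Act.FP f hf)⟩) hy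
  have w := (d8 f hf).2.2
  obtain ⟨g, hg, e⟩ := decF h hs (mul_mem m1 hy) w
    (Split1.φmul h.f m1 hf (φ_conj ht k (c.c1 f (Act.FP f hf))) k)
  have e2 := lq hs c.toGF.h1_mem (WE w) (d10 _ (WE w)).1 (c.c1 _ (Act.EP _ (WE w))) (c.c1 g (Act.FP g hg))
  have e3 : c.h1 * (c.h1 * y * c.h1⁻¹) * c.h1⁻¹ * y =
      c.h1 * (c.h1 * y * c.h1⁻¹ * y) * c.h1⁻¹ * (c.h1 * y * c.h1⁻¹ * y) := by
    calc _ = c.h1 * (c.h1 * y * c.h1⁻¹) * (y * y) * c.h1⁻¹ * y := by rw [h.f.sq y hy, mul_one]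
      _ = _ := by group
  rw [e3, e, e2, mul_assoc, ← mul_assoc (c.ι _),
    (h.f.comm _ (h.f.DR _ (d8 g hg).2.1) _ (sW h hs w)).eq, mul_assoc, ← map_mul]
  exact mul_mem (hs.mem _ (d10 _ (WE w)).1) (mul_mem (hs.mem _ (WE w)) (h.e.DR _ (WE (d8 g hg).2.2)))

theorem ab {y : G} (hy : y ∈ Fs) :
    ∃ f ∈ F, ∃ f' ∈ F, ∀ e ∈ E, y * s e * y⁻¹ = s (f * e * f⁻¹) * c.ι (m f' e) := by
  have E1 := d9.2.2.2.2.2.2.1
  obtain ⟨a, ha, b, hb, e⟩ := decW h hs (h.comm _ (hs.mem e1 E1) y hy)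
  obtain ⟨f, hf, f1, -, f2⟩ := d3 a ha
  obtain ⟨f', hf', f1', f2', -⟩ := d3 b hb
  have r1 : y * s e1 * y⁻¹ = s (f * e1 * f⁻¹) * c.ι (m f' e1) := by
    have i := inv_eq_of_mul_eq_one_right (h.e.sq _ (hs.mem e1 E1))
    rw [f2, f2', hs.mul _ E1 _ (WE ha), mul_assoc (s e1), ← e, i, ← mul_assoc, ← mul_assoc, ← mul_assoc,
      h.e.sq _ (hs.mem e1 E1), one_mul]
  have r0 : y * s 1 * y⁻¹ = s (f * 1 * f⁻¹) * c.ι (m f' 1) := by simp [m, s1 hs]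
  have rk : ∀ e ∈ E, y * s e * y⁻¹ = s (f * e * f⁻¹) * c.ι (m f' e) →
      y * s (a1 (a1 e)) * y⁻¹ = s (f * a1 (a1 e) * f⁻¹) * c.ι (m f' (a1 (a1 e))) := fun e he r => by
    have l := c.toGF.h1_mem
    have E2 := (d10 e he).1
    have q : ∀ e ∈ E, c.h1 * (s (f * e * f⁻¹) * c.ι (m f' e)) * c.h1⁻¹ =
        s (f * a1 e * f⁻¹) * c.ι (m f' (a1 e)) := fun e he =>
      lq hs l (Act.nmE f e he) (Act.nmE f _ (d10 e he).1)
        (by rw [c.c1 _ (Act.EP _ (Act.nmE f e he)), (d4 f hf f1 e he).1])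
        (by rw [c.c1 _ (Act.EP _ ((d10 e he).2.2.1 f')), (d4 f' hf' f1' e he).2])
    have q' : ∀ e ∈ E, c.h1 * s e * c.h1⁻¹ = s (a1 e) := fun e he =>
      hs.eqv _ l e he _ (d10 e he).1 (c.c1 e (Act.EP e he))
    have cm := (h.e.comm _ (kk h hs hy) _ (h.normE (Cen.le3 hy) _ (hs.mem _ (d10 _ E2).1))).eq
    rw [← q _ E2, ← q _ he, ← r, ← mul_inv_eq_iff_eq_mul.2 cm, ← q' _ E2, ← q' _ he]
    have i := inv_eq_of_mul_eq_one_right (h.f.sq y hy)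
    calc _ = c.h1 * (c.h1 * y * c.h1⁻¹) * c.h1⁻¹ * (y * y) * (c.h1 * (c.h1 * s e * c.h1⁻¹) * c.h1⁻¹) *
        (y * y)⁻¹ * (c.h1 * (c.h1 * y * c.h1⁻¹) * c.h1⁻¹)⁻¹ := by group
      _ = _ := by rw [h.f.sq y hy]; group
  have rw' : ∀ e ∈ E, y * s e * y⁻¹ = s (f * e * f⁻¹) * c.ι (m f' e) → ∀ w ∈ W,
      y * s (e * w) * y⁻¹ = s (f * (e * w) * f⁻¹) * c.ι (m f' (e * w)) := fun e he r w hw => by
    have := qmul h hs (Act.nmE f e he) (WE hw) ((d10 e he).2.2.1 f') 1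
    rw [map_one, mul_one, mul_one, ← r] at this
    rw [((d6 f hf e he).2 w hw).1, ((d6 f' hf' e he).2 w hw).2, ← this, hs.mul e he w (WE hw), mul_assoc _ y⁻¹,
      (h.f.comm y hy _ (sW h hs hw)).inv_left.eq]; group
  have E3 := (d10 _ (d10 _ E1).1).1
  refine ⟨f, hf, f', hf', fun e he => ?_⟩
  obtain ⟨w, hw, rfl | rfl | rfl | rfl⟩ := d5 e he
  exacts [rw' _ (one_mem _) r0 w hw, rw' _ E1 r1 w hw, rw' _ E3 (rk _ E1 r1) w hw,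
    rw' _ (d10 _ (d10 _ E3).1).1 (rk _ E3 (rk _ E1 r1)) w hw]

theorem ns_of {y y' : G} (hy : y ∈ Fs) (hy' : y' ∈ Fs) (n : Ns s y') {f f' : T} (hf : f ∈ F)
    (k : y * c.t * y⁻¹ = c.t * c.ι f) (k' : y' * c.t * y'⁻¹ = c.t * c.ι f') (w : f' * f ∈ W) : Ns s y := by
  obtain ⟨g, hg, e⟩ := decF h hs (mul_mem hy' hy) w (Split1.φmul h.f hy' hf k' k)
  have : Ns s (s (f' * f)) := fun e he => ⟨e, he, by
    rw [(h.e.comm _ (hs.mem _ (WE w)) _ (hs.mem e he)).eq, mul_inv_cancel_right]⟩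
  have := n.mul (e ▸ this.mul (ns_l hs (c.toGF.ι_mem g)))
  rwa [← mul_assoc, h.f.sq y' hy', one_mul] at this

theorem notv {g : G} (hg : g ∈ N0 c Es Fs) (r : Ra c s g fun p => (τ p.1, τ p.2)) : False := by
  have cen : ∀ {x y : G}, Ra c s x (fun p => (τ p.1, τ p.2)) → Ra c s y (fun p => (τ p.1, τ p.2)) →
      ∀ a ∈ Es, Commute (x⁻¹ * y) a := fun {x y} rx ry a ha => by
    obtain ⟨u, hu, v, hv, rfl⟩ := dec h hs ha
    have := (ry (u, v) hu hv).trans (rx (u, v) hu hv).symm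
    refine mul_inv_eq_iff_eq_mul.1 ?_
    calc _ = x⁻¹ * (y * (s u * c.ι v) * y⁻¹) * x := by group
      _ = _ := by rw [this]; group
  have ri : Ra c s g⁻¹ fun p => (τ p.1, τ p.2) := fun p p1 p2 => by
    have := r (τ p.1, τ p.2) (d2 _ p1).2.1 (d2 _ p2).2.1
    simp only [(d2 _ p1).2.2, (d2 _ p2).2.2] at this
    rw [← this]; group
  obtain ⟨a, -, k, aN, -, a2, -, -, _, ⟨j, rfl⟩, e⟩ := exists_parts g
  replace aN : a ∈ N0 c Es Fs := zpowers_le.2 hg aN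
  have ra : Ra c s a fun p => (τ p.1, τ p.2) := fun p p1 p2 => by
    have := ((cen ri r _ (mul_mem (hs.mem _ p1) (h.e.DR _ p2))).pow_left j).eq
    rw [inv_inv] at this
    rw [← r p p1 p2, e, pow_succ', pow_mul, pow_two, mul_assoc g, this]; group
  have rt : Ra c s (c.t * a * c.t) fun p => (τ p.1, τ p.2) := fun p p1 p2 => by
    have := ra (p.1, p.1 * p.2) p1 (mul_mem p1 p2)
    dsimp only at this ⊢
    rw [← (d1 _ p1 _ p2).2, ← tq h hs (d2 _ p1).2.1, ← this, ← tq h hs p1, mul_inv_rev, mul_inv_rev, Cen.ti]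
    group
  obtain ⟨b, hb, o, -, o1, o2, e1⟩ := h.cen (mul_mem (inv_mem aN) (h.t_norm aN)) (cen ra rt)
  have pw : ∀ n : ℕ, (a ^ n)⁻¹ * (a * b) ^ n ∈ Es := fun n => by
    induction n with
    | zero => simp
    | succ n ih =>
      have : (a ^ (n + 1))⁻¹ * (a * b) ^ (n + 1) = a⁻¹ * ((a ^ n)⁻¹ * (a * b) ^ n) * a⁻¹⁻¹ * b := by
        rw [pow_succ, pow_succ]; group
      exact this ▸ mul_mem (h.normE (inv_mem aN) _ ih) hb
  have q2 : c.t * a * c.t = a * b := by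
    refine two_unique o1 (o2 _ (mul_mem aN (Cen.le2 hb))) (i := k) (j := k + 1) ?_ ?_
      (by rw [mul_assoc a, ← e1, mul_inv_cancel_left])
    · have := conj_pow (i := 2 ^ k) (a := c.t) (b := a)
      rwa [a2, mul_one, mul_inv_cancel, Cen.ti] at this
    · have := pw (2 ^ k)
      rw [a2, inv_one, one_mul] at this
      rw [pow_succ, pow_mul, pow_two, h.e.sq _ this]
  have e3 : Commute b c.t := by
    have i := inv_eq_of_mul_eq_one_right (h.e.sq b hb)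
    have : b * (c.t * b * c.t) = 1 := by
      calc _ = a⁻¹ * (a * b) * (c.t * b * c.t) := by group
        _ = a⁻¹ * c.t * (a * (c.t * c.t) * b) * c.t := by rw [← q2]; group
        _ = a⁻¹ * c.t * (c.t * a * c.t) * c.t := by rw [c.tt, mul_one, ← q2]
        _ = a⁻¹ * (c.t * c.t) * a * (c.t * c.t) := by simp only [mul_assoc]
        _ = 1 := by rw [c.tt]; group
    rw [← inv_eq_iff_mul_eq_one, i] at this
    show b * c.t = c.t * b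
    conv_lhs => rw [this, mul_assoc, c.tt, mul_one]
  obtain ⟨x, hx, rfl⟩ := h.e.ker b hb e3
  have e4 : Commute (a * s x) c.t := by
    have : c.t * (a * s x) * c.t = a * s x := by
      calc _ = c.t * a * (c.t * c.t) * s x * c.t := by rw [c.tt]; group
        _ = c.t * a * c.t * (c.t * s x * c.t) := by group
        _ = _ := by rw [q2, tqt (hs.φ x hx), mul_assoc, ← mul_assoc (c.ι x), h.e.sq _ hb, one_mul]
    show a * s x * c.t = c.t * (a * s x)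
    conv_lhs => rw [← this, mul_assoc, c.tt, mul_one]
  have e5 : ∀ e ∈ E, a * s x * c.ι e * (a * s x)⁻¹ = c.ι (τ e) := fun e he => by
    have := ra (1, e) (one_mem _) he
    simp only [d9.2.2.2.2.2.2.2.2.2.1, s1 hs, one_mul] at this
    rw [← this, mul_assoc a, (h.e.comm _ (hs.mem x hx) _ (h.e.DR e he)).eq]; group
  have u : ∀ e : T, Zr 120 e → e ∈ E := by decide +kernel
  have := c.noTv e4 (fun e he => ⟨_, (d2 e he).2.1, e5 e he⟩) (U := sub 120 (by decide +kernel)) u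
    (card_of (Zr 120) 8 (by decide +kernel)).ge
    (fun e he => mul_inv_eq_iff_eq_mul.1 (by rw [e5 e (u e he), (d2 e (u e he)).1 he])) e2 d9.2.2.2.2.2.2.2.1
  have e6 := e5 _ d9.2.2.2.2.2.2.2.1
  rw [this.eq, mul_inv_cancel_right] at e6
  exact d9.2.2.2.2.2.2.2.2.1 (c.inj e6).symm

end Sp2

open Sp2

theorem Sx.act (h : Sx c Es Fs) (hs : Sp c Es s) {y : G} (hy : y ∈ Fs) :
    ∃ f ∈ F, ∀ e ∈ E, y * s e * y⁻¹ = s (f * e * f⁻¹) := by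
  obtain ⟨σ2, σE, ρ2, ρE, σf, F0, E1, -⟩ := d9
  obtain ⟨y0, h0, k0⟩ := h.f.onto f0 F0
  obtain ⟨f, hf, f', hf', r⟩ := ab h hs h0
  have m1 := Split1.nrm h.f (c.ιt σ) (Act.nm_ι c.toGF σ) h0
  obtain ⟨g, hg, e⟩ := h.f.ker _ (mul_mem (inv_mem h0) m1)
    (comm_of_φ (k0.trans (φ_conj (c.ιt σ) k0 (by rw [ιc, σf])).symm))
  have E2 := Act.nmE σ _ E1
  have key : σ * m f' e1 * σ⁻¹ = m f' (g * (σ * e1 * σ⁻¹) * g⁻¹) := by
    refine (uq hs (Act.nmE σ _ (Act.nmE f _ E1)) (Act.nmE f _ (Act.nmE g _ E2)) ?_).2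
    rw [← r _ (Act.nmE g _ E2), ← lq hs (c.toGF.ι_mem σ) (Act.nmE f _ E1) (Act.nmE σ _ (Act.nmE f _ E1))
      (ιc _ _) (ιc _ _), ← r _ E1, ← sι hs g E2, ← sι hs σ E1, ← e]
    group
  rcases d7 f' hf' g hg key with k | k
  · have n0 : Ns s y0 := fun e he => ⟨_, Act.nmE f e he, by rw [r e he, k e he, map_one, mul_one]⟩
    have l := c.toGF.h2_mem
    have st : ∀ {y : G} {f : T}, f ∈ F → y ∈ Fs ∧ Ns s y ∧ y * c.t * y⁻¹ = c.t * c.ι f →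
        c.h2 * y * c.h2⁻¹ ∈ Fs ∧ Ns s (c.h2 * y * c.h2⁻¹) ∧
          c.h2 * y * c.h2⁻¹ * c.t * (c.h2 * y * c.h2⁻¹)⁻¹ = c.t * c.ι (a2 f) := fun hf ⟨a, b, d⟩ =>
      ⟨Split1.nrm h.f (c.Lt _ l) (Act.nm_h2 _) a, ((ns_l hs l).mul b).mul (ns_l hs (inv_mem l)),
        φ_conj (c.Lt _ l) d (c.c2 _ (Act.FP _ hf))⟩
    have s1' := st F0 ⟨h0, n0, k0⟩
    have s2 := st (Act.a2F _ F0) s1'
    obtain ⟨x, hx, kx⟩ := h.f.φ y hy
    have n : Ns s y := by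
      rcases (d8 x hx).1 with w | w | w | w
      · exact ns_of h hs hy (one_mem _) (ns_l hs (one_mem _)) hx kx (by simp) w
      · exact ns_of h hs hy h0 n0 hx kx k0 w
      · exact ns_of h hs hy s1'.1 s1'.2.1 hx kx s1'.2.2 w
      · exact ns_of h hs hy s2.1 s2.2.1 hx kx s2.2.2 w
    obtain ⟨f, hf, f', hf', r⟩ := ab h hs hy
    refine ⟨f, hf, fun e he => ?_⟩
    obtain ⟨e', he', k⟩ := n e he
    rw [k, (uq hs he' (Act.nmE f e he) (v := 1) (v' := m f' e) (by rw [map_one, mul_one, ← k, r e he])).1]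
  exfalso
  have gF : f0 * f⁻¹ ∈ F := mul_mem F0 (inv_mem hf)
  have h1 : c.ι (f0 * f⁻¹) * y0 ∈ Fs := mul_mem (h.f.DR _ gF) h0
  have k1 := Split1.φmul h.f (h.f.DR _ gF) F0 (φ_one (c.ιt _)) k0
  have r1 : ∀ e ∈ E, c.ι (f0 * f⁻¹) * y0 * s e * (c.ι (f0 * f⁻¹) * y0)⁻¹ =
      s (f0 * e * f0⁻¹) * c.ι (m f0 e) := fun e he => by
    rw [← lq hs (c.toGF.ι_mem (f0 * f⁻¹)) (Act.nmE f e he) (Act.nmE f0 e he) (by rw [ιc]; congr 1; group)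
      (by rw [ιc, (d6 _ gF e he).1]), ← k e he, ← r e he]
    group
  rw [one_mul] at k1
  generalize c.ι (f0 * f⁻¹) * y0 = y1 at h1 k1 r1
  have r2 : ∀ e ∈ E, y1 * c.ι e * y1⁻¹ = s (m f0 e) * c.ι e := fun e he => by
    have a1 := Act.nmE f0 e he
    have a2 := (d10 e he).2.2.1 f0
    have e1 : c.ι e = c.t * s e * c.t * s e := by
      rw [tqt (hs.φ e he), mul_assoc, h.e.sq _ (hs.mem e he), mul_one]
    have e2 : c.ι f0 * c.t = c.t * (c.ι f0)⁻¹ := by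
      rw [(c.ιt f0).eq, ← map_inv, inv_eq_of_mul_eq_one_right d9.2.2.2.2.2.2.2.2.2.2]
    calc _ = y1 * c.t * y1⁻¹ * (y1 * s e * y1⁻¹) * (y1 * c.t * y1⁻¹) * (y1 * s e * y1⁻¹) := by
          conv_lhs => rw [e1]
          group
      _ = c.t * (c.ι f0 * (s (f0 * e * f0⁻¹) * c.ι (m f0 e)) * (c.ι f0)⁻¹) * c.t *
          (s (f0 * e * f0⁻¹) * c.ι (m f0 e)) := by
          rw [k1, r1 e he, ← (c.ιt f0).eq]
          nth_rewrite 2 [e2]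
          rw [(c.ιt f0).eq, ← (c.ιt f0).inv_left.eq]
          group
      _ = _ := by
          rw [lq hs (c.toGF.ι_mem f0) a1 (Act.nmE f0 _ a1) (ιc _ _) (ιc _ _), tq h hs (Act.nmE f0 _ a1),
            qmul h hs (Act.nmE f0 _ a1) a1 (mul_mem (Act.nmE f0 _ a1) (Act.nmE f0 _ a2)),
            (d10 e he).2.2.2.1, (d10 e he).2.2.2.2]
  have R : Ra c s y1 (st f0) := fun p p1 p2 => by
    rw [← conj_mul, r1 _ p1, r2 _ p2, qmul h hs (Act.nmE f0 _ p1) ((d10 _ p2).2.2.1 f0) ((d10 _ p1).2.2.1 f0)]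
    rfl
  obtain ⟨l, hl, el⟩ := c.toGF.clsO σ2 σE
  obtain ⟨l', hl', el'⟩ := c.toGF.clsO ρ2 ρE
  have N : ∀ l ∈ c.Λ, l⁻¹ * y1 * l ∈ N0 c Es Fs := fun l hl =>
    mul_mem (mul_mem (inv_mem (Cen.le1 hl)) (Cen.le3 h1)) (Cen.le1 hl)
  refine notv h hs (mul_mem (mul_mem (Cen.le3 h1) (N l hl)) (N l' hl')) fun p p1 p2 => ?_
  rw [((R.mul (R.tr hs hl el)).mul (R.tr hs hl' el')) p p1 p2, Function.comp_apply, Function.comp_apply,
    (d1 _ p1 _ p2).1]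

end Cfsg.Agent.WR
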