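import Cfsg.Agent.WR.Dbl
import Cfsg.Agent.WR.Quad
import Cfsg.Agent.WR.Util

/-! Project WR: the two elementary abelian subgroups `E*`, `F*` of order `2⁸`. -/

set_option autoImplicit false
set_option maxRecDepth 100000

namespace Cfsg.Agent.WR

open Subgroup Cfsg.Agent.H78 Cfsg.Agent.H14
open Cfsg.Agent.H42 (SylIn cj)

variable {G : Type*} [Group G] [Finite G]

variable {c : Cf G} {D D' : Subgroup T} {Q Q' R R' : Subgroup G}

theorem DD.nm' (h : DD c D Q) (o : Op D D') {u : G} (hu : u ∈ Q) {w : T} (hw : w ∈ W)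
    (e : u * c.t * u⁻¹ = c.t * c.ι w) : Nm c.ι D' u := fun f hf => by
  obtain ⟨w1, w2⟩ := (o.w w).1 hw
  have k1 : u * (c.t * c.ι w) * u⁻¹ = c.t := by
    rw [← mul_assoc, mul_assoc _ (c.ι w), ← (h.cD u hu w w1).inv_left.eq, ← mul_assoc, e, mul_assoc,
      ← map_mul, o.sq w w1, map_one, mul_one]
  have k2 : Commute (u * c.ι f * u⁻¹) c.t := by
    have := ((c.ιt f).mul_right (comm_ι (o.cm' f hf w w2))).map (MulAut.conj u)
    simp only [MulAut.conj_apply] at this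
    rwa [k1] at this
  have k3 : u * c.ι f * u⁻¹ * (c.ι f)⁻¹ ∈ Q := by
    have := h.norm (c.ι f) ⟨1, one_mem _, φ_one (c.ιt f)⟩ (nm_ι o.nm f) _ (inv_mem hu)
    simpa only [mul_assoc] using mul_mem hu this
  have k4 : u * c.ι f * u⁻¹ * (u * c.ι f * u⁻¹) = 1 := by
    rw [conj_mul, ← map_mul, o.sq' f hf, map_one, mul_one, mul_inv_cancel]
  obtain ⟨e0, he0, k | k⟩ := h.ker _ k3 (k2.mul_left (c.ιt f).inv_left) <;>
    rw [mul_inv_eq_iff_eq_mul] at k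
  · rw [← map_mul] at k
    have k5 : e0 * f * (e0 * f) = 1 := c.inj (by rw [map_mul, ← k, k4, map_one])
    have k6 : e0 * f = f * e0 := by
      rw [← inv_eq_of_mul_eq_one_right k5, mul_inv_rev, inv_eq_of_mul_eq_one_right (o.sq' f hf),
        inv_eq_of_mul_eq_one_right (o.sq e0 he0)]
    rcases o.ef e0 he0 f hf k6 with a | a
    · exact ⟨_, mul_mem a hf, k⟩
    · exact ⟨f, hf, by rw [(h.cD u hu f a).eq, mul_inv_cancel_right]⟩
  · rw [mul_assoc c.t, ← map_mul] at k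
    have k5 : e0 * f * (e0 * f) = 1 := c.inj (by
      rw [k, mul_assoc, ← mul_assoc (c.ι _), (c.ιt _).eq, mul_assoc, ← mul_assoc, c.tt, one_mul] at k4
      rw [map_mul, k4, map_one])
    exact (c.not_conj f ((c.conj_t k5).trans (k ▸ (isConj_iff.2 ⟨u, rfl⟩).symm))).elim

theorem ontoQ (h : DD c E Q) (h' : DD c F Q') {w : T} (hw : w ∈ W) :
    ∃ q ∈ Q ⊓ Q', q * c.t * q⁻¹ = c.t * c.ι w := by
  obtain ⟨w1, w2⟩ := (mem_W w).1 hw
  obtain ⟨u, hu, e⟩ := h.onto w w1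
  obtain ⟨u', hu', e'⟩ := h'.onto w w2
  have n1 : ∀ g, (∃ e ∈ F, g * c.t * g⁻¹ = c.t * c.ι e) → Nm c.ι F g → g ∈ normalizer (Q' : Set G) :=
    fun g a b => H42.mem_normalizer_of_conj_mem (h'.norm g a b)
  have hY : IsPGroup 2 ↥((Q ⊓ normalizer (Q' : Set G)) ⊔ Q') :=
    IsPGroup.to_sup_of_normal_right' (h.p2.to_le inf_le_left) h'.p2 inf_le_right
  have cW : ∀ {g : G}, (∀ w ∈ W, Commute g (c.ι w)) → g ∈ centralizer (W.map c.ι : Set G) :=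
    fun {g} k => by
      rintro _ ⟨w, hw, rfl⟩
      exact (k w hw).eq.symm
  have ct : ∀ {g : G}, Commute g c.t → g ∈ centralizer {c.t} := fun k =>
    mem_centralizer_singleton_iff.2 k
  have hWP : ∀ x ∈ P, ∀ w ∈ W, x * w = w * x := by decide +kernel
  obtain ⟨x, hx, k⟩ := c.maxP (Q := ((Q ⊓ normalizer (Q' : Set G)) ⊔ Q') ⊓ centralizer {c.t} ⊓
      normalizer (E.map c.ι : Set G) ⊓ centralizer (W.map c.ι : Set G))
    (hY.to_le (inf_le_left.trans (inf_le_left.trans inf_le_left)))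
    (fun g hg => c.normE (mem_centralizer_singleton_iff.1 hg.1.1.2) (nm_iff.2 hg.1.2))
    ⟨⟨⟨mem_sup_right h'.tQ, ct (.refl _)⟩, nm_iff.1 fun e he =>
      ⟨e, he, by rw [← (c.ιt e).eq, mul_inv_cancel_right]⟩⟩, cW fun w _ => (c.ιt w).symm⟩
    (fun x hx => ⟨⟨⟨by
      obtain ⟨a, ha, b, hb, rfl⟩ := (mem_P x).1 hx
      rw [map_mul]
      exact mul_mem (mem_sup_left ⟨h.DQ a ha, n1 _ ⟨1, one_mem _, φ_one (c.ιt a)⟩ (nm_ι opEF.nm' a)⟩)
        (mem_sup_right (h'.DQ b hb)), ct (c.ιt x)⟩, nm_iff.1 (nm_ι opEF.nm x)⟩,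
      cW fun w hw => comm_ι (hWP x hx w hw)⟩)
    (fun q hq w hw => (hq.2 _ (mem_map_of_mem c.ι hw)).symm) (q := u⁻¹ * u')
    ⟨⟨⟨Subgroup.mul_mem _ (Subgroup.inv_mem _ (mem_sup_left
      ⟨hu, n1 u ⟨w, w2, e⟩ (h.nm' opEF hu hw e)⟩)) (mem_sup_right hu'),
      ct (comm_of_φ (e.trans e'.symm))⟩, Subgroup.mul_mem _ (Subgroup.inv_mem _ (nm_iff.1 fun a ha =>
        ⟨a, ha, by rw [(h.cD u hu a ha).eq, mul_inv_cancel_right]⟩))
        (nm_iff.1 (h'.nm' opEF.symm hu' hw e'))⟩,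
      cW fun v hv => (h.cD u hu v ((mem_W v).1 hv).1).inv_left.mul_left
        (h'.cD u' hu' v ((mem_W v).1 hv).2)⟩
  obtain ⟨a, ha, b, hb, rfl⟩ := (mem_P x).1 hx
  refine ⟨u' * (c.ι b)⁻¹, mem_inf.2 ⟨?_, mul_mem hu' (inv_mem (h'.DQ b hb))⟩, ?_⟩
  · rcases k with k | k <;> rw [inv_mul_eq_iff_eq_mul, map_mul] at k <;> rw [k]
    · simpa [mul_assoc] using mul_mem hu (h.DQ a ha)
    · simpa [mul_assoc] using mul_mem hu (mul_mem h.tQ (h.DQ a ha))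
  · rw [mul_assoc u', (c.ιt b).inv_left.eq, ← e']
    group

omit [Finite G] in
theorem DD.sq_t (h : DD c D Q) {q : G} (hq : q ∈ Q) {e : T} (he : e ∈ D)
    (k : q * c.t * q⁻¹ = c.t * c.ι e) : q * c.t * (q * c.t) = q * q * c.ι e := by
  rw [mul_assoc, ← mul_assoc c.t, tqt k, ← (h.cD q hq e he).eq, mul_assoc]

theorem DD.sq_coset (h : DD c D Q) (o : Op D D') {q q' : G} (hq : q ∈ Q) (hq' : q' ∈ Q) {e : T}
    (he : e ∈ D) (k : q * c.t * q⁻¹ = c.t * c.ι e) (k' : q' * c.t * q'⁻¹ = c.t * c.ι e) :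
    q' * q' = q * q ∨ q' * q' = q * q * c.ι e := by
  have s : ∀ p ∈ Q, ∀ a ∈ D, p * c.ι a * (p * c.ι a) = p * p := fun p hp a ha => by
    rw [(h.cD p hp a ha).symm.mul_mul_mul_comm, ← map_mul, o.sq a ha, map_one, mul_one]
  obtain ⟨a, ha, l | l⟩ := h.ker _ (mul_mem (inv_mem hq) hq') (comm_of_φ (k.trans k'.symm)) <;>
    rw [inv_mul_eq_iff_eq_mul] at l
  · exact .inl (by rw [l, s q hq a ha])
  · exact .inr (by rw [l, ← mul_assoc q, s _ (mul_mem hq h.tQ) a ha, h.sq_t hq he k])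

theorem DD.sq (h : DD c D Q) (o : Op D D') {q : G} (hq : q ∈ Q) : ∃ e ∈ D, q * q = c.ι e := by
  obtain ⟨e, he, k⟩ := h.φ q hq
  have k2 : Commute (q * q) c.t := by
    have : q * q * c.t * (q * q)⁻¹ = q * (q * c.t * q⁻¹) * q⁻¹ := by group
    rw [k, ← mul_assoc, mul_assoc _ (c.ι e), ← (h.cD q hq e he).inv_left.eq, ← mul_assoc, k, mul_assoc c.t,
      ← map_mul, o.sq e he, map_one, mul_one] at this
    exact mul_inv_eq_iff_eq_mul.1 this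
  obtain ⟨a, ha, l | l⟩ := h.ker _ (mul_mem hq hq) k2
  · exact ⟨a, ha, l⟩
  · have k3 : Commute q c.t := by
      have : Commute q (c.t * c.ι a) := l ▸ (Commute.refl q).mul_right (.refl q)
      simpa using this.mul_right (h.cD q hq a ha).inv_right
    refine ⟨1, one_mem _, ?_⟩
    obtain ⟨b, hb, m | m⟩ := h.ker q hq k3 <;> rw [m]
    · rw [← map_mul, o.sq b hb]
    · rw [(c.ιt b).mul_mul_mul_comm, c.tt, ← map_mul, o.sq b hb, one_mul]

theorem DD.q_of (h : DD c D Q) (hd : Dd c D)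
    (h0 : ∀ q ∈ Q, q * c.t * q⁻¹ = c.t * c.ι z → q * q = 1 ∨ q * q = c.ι z) :
    ∀ q ∈ Q, ∀ e ∈ D, e ≠ 1 → q * c.t * q⁻¹ = c.t * c.ι e → q * q = 1 ∨ q * q = c.ι e := by
  intro q hq e he e1 k
  obtain ⟨g, g1, g2, g3⟩ := hd.tr e he e1
  have := h0 _ (h.norm g ⟨1, one_mem _, φ_one g1⟩ g2 q hq) (φ_conj g1 k g3)
  rw [conj_mul, ← g3, conj_eq_one_iff] at this
  simpa using this

theorem qE (h : DD c E Q) : ∀ q ∈ Q, q * c.t * q⁻¹ = c.t * c.ι z → q * q = 1 ∨ q * q = c.ι z := by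
  intro q hq k
  have hz : z ∈ E := by decide +kernel
  have yt := c.Lt _ c.y7_mem
  obtain ⟨e, he, l⟩ := h.sq opEF hq
  have := h.sq_coset opEF hq (h.norm c.y7 ⟨1, one_mem _, φ_one yt⟩ (c.nE c.y7_mem) q hq) hz k
    (φ_conj yt k (by rw [c.c7 z hz, show a7 z = z by decide +kernel]))
  rw [conj_mul, l, c.c7 e he, ← map_mul] at this
  rcases (by decide +kernel : ∀ e : T, e ∈ E → a7 e = e ∨ a7 e = e * z → e = 1 ∨ e = z) e he
    (this.imp (fun a => c.inj a) fun a => c.inj a) with rfl | rfl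
  exacts [.inl (l.trans (map_one _)), .inr l]

theorem qF (h : DD c E Q) (h' : DD c F Q') :
    ∀ q ∈ Q', q * c.t * q⁻¹ = c.t * c.ι z → q * q = 1 ∨ q * q = c.ι z := by
  intro q hq k
  obtain ⟨d, hd, l⟩ := ontoQ h h' (w := z) (by decide +kernel)
  rcases h'.sq_coset opEF.symm hd.2 hq (by decide +kernel) l k with a | a <;>
    rcases qE h d hd.1 l with b | b <;> rw [a, b]
  · exact .inl rfl
  · exact .inr rfl
  · exact .inr (one_mul _)
  · exact .inl (by rw [← map_mul, show z * z = 1 by decide +kernel, map_one])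

variable {u : Bool}

omit [Finite G] in
theorem DS.ker (h : DD c D Q) (s : DS c D Q R u) {q : G} (hq : q ∈ R) (k : Commute q c.t) :
    ∃ e ∈ D, q = c.ι e := by
  obtain ⟨e, he, l | l⟩ := h.ker q (s.le hq) k
  · exact ⟨e, he, l⟩
  · exact (s.tR (by simpa [l] using mul_mem hq (inv_mem (s.DR e he)))).elim

theorem DS.norm (h : DD c D Q) (s : DS c D Q R u) {g : G}
    (h1 : ∃ e ∈ D, g * c.t * g⁻¹ = c.t * c.ι e) (h2 : Nm c.ι D g) {q : G} (hq : q ∈ R) :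
    g * q * g⁻¹ ∈ R := by
  obtain ⟨e, he, k⟩ := h.φ q (s.le hq)
  by_cases e1 : e = 1
  · subst e1
    obtain ⟨a, ha, rfl⟩ := s.ker h hq (by simpa [mul_inv_eq_iff_eq_mul, Commute, SemiconjBy] using k)
    obtain ⟨a', ha', l⟩ := h2 a ha
    exact l ▸ s.DR a' ha'
  obtain ⟨e', he', l⟩ := h2 e he
  have m := h.norm g h1 h2 q (s.le hq)
  obtain ⟨e0, he0, k0⟩ := h1
  have k' : g * q * g⁻¹ * c.t * (g * q * g⁻¹)⁻¹ = c.t * c.ι e' := by
    have a1 := (h.cD _ m e0 he0).eq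
    have a2 : g * q * g⁻¹ * (c.t * c.ι e0) * (g * q * g⁻¹)⁻¹ = c.t * c.ι e0 * c.ι e' := by
      rw [← k0, ← l]
      calc _ = g * (q * c.t * q⁻¹) * g⁻¹ := by group
        _ = _ := by rw [k]; group
    have a3 := (h.cD _ (h.DQ e0 he0) e' he').eq
    calc _ = g * q * g⁻¹ * (c.t * c.ι e0) * (g * q * g⁻¹)⁻¹ *
          (g * q * g⁻¹ * c.ι e0 * (g * q * g⁻¹)⁻¹)⁻¹ := by group
      _ = _ := by rw [a2, a1, mul_assoc c.t, a3]; group
  rw [s.mem _ m e' he' (fun a => e1 (c.inj (by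
    rw [a, map_one, conj_eq_one_iff] at l; rw [l, map_one]))) k', conj_mul,
    (s.mem q (s.le hq) e he e1 k).1 hq]
  cases u
  · simpa using l
  · simp

theorem DS.cf (h : DD c D Q) (s : DS c D Q R u) (h' : DD c D' Q') (o : Op D D')
    (hW : ∀ w ∈ W, ∃ q ∈ Q ⊓ Q', q * c.t * q⁻¹ = c.t * c.ι w) {f : T} (hf : f ∈ D') (f1 : f ∉ D)
    {x : G} (hx : x ∈ R) (k : Commute x (c.ι f)) : x ∈ Q' := by
  obtain ⟨e, he, l⟩ := h.φ x (s.le hx)
  have e1 : e ∈ D' := by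
    refine (o.ef e he f hf (ι_comm (c := c) ?_)).resolve_right f1
    have : Commute (c.t * c.ι e) (c.ι f) := l ▸ (k.mul_left (c.ιt f).symm).mul_left k.inv_left
    simpa using (c.ιt f).symm.inv_left.mul_left this
  obtain ⟨q, hq, m⟩ : ∃ q ∈ R ⊓ Q', q * c.t * q⁻¹ = c.t * c.ι e := by
    obtain ⟨q, hq, m⟩ := hW e ((o.w e).2 ⟨he, e1⟩)
    rcases s.idx q hq.1 with a | a
    · exact ⟨q, ⟨a, hq.2⟩, m⟩
    · exact ⟨q * c.t, ⟨a, mul_mem hq.2 h'.tQ⟩, by rw [← m]; group⟩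
  obtain ⟨a, ha, n⟩ := s.ker h (mul_mem (inv_mem hq.1) hx) (comm_of_φ (m.trans l.symm))
  have a1 : a ∈ D' := (o.ef a ha f hf (ι_comm (c := c)
    (n ▸ (h'.cD q hq.2 f hf).inv_left.mul_left k))).resolve_right f1
  rw [inv_mul_eq_iff_eq_mul.1 n]
  exact mul_mem hq.2 (h'.DQ a a1)

theorem DS.elem (h : DD c D Q) (s : DS c D Q R u) (h' : DD c D' Q') (o : Op D D')
    (hW : ∀ w ∈ W, ∃ q ∈ Q ⊓ Q', q * c.t * q⁻¹ = c.t * c.ι w) : u = true := by
  cases u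
  swap
  · rfl
  exfalso
  obtain ⟨e, he, e1, f, hf, f', hf', a1, a2, a3⟩ := o.ex
  obtain ⟨d, hd, k⟩ : ∃ d ∈ R, d * c.t * d⁻¹ = c.t * c.ι e := by
    obtain ⟨q, hq, m⟩ := h.onto e he
    rcases s.idx q hq with a | a
    · exact ⟨q, a, m⟩
    · exact ⟨q * c.t, a, by rw [← m]; group⟩
  have d2 : d * d = c.ι e := (s.mem d (s.le hd) e he (fun a => e1 (a ▸ one_mem _)) k).1 hd
  have m : ∀ g, c.ι g * d * (c.ι g)⁻¹ ∈ R := fun g =>
    s.norm h ⟨1, one_mem _, φ_one (c.ιt g)⟩ (nm_ι o.nm g) hd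
  have n : ∀ g ∈ D', g ∉ D → d * (c.ι g * d * (c.ι g)⁻¹) ∈ Q' := fun g hg g1 =>
    s.cf h h' o hW hg g1 (mul_mem hd (m g))
      (comm_norm (by rw [← map_mul, o.sq' g hg, map_one]) (s.comm _ hd _ (m g)))
  have n2 := (h'.cD _ (n f' hf' a2) f hf).eq
  have n4 : d * d ∈ Q' := by
    have p := mul_mem (mul_mem (n f hf a1) (inv_mem (n f' hf' a2))) (n _ (mul_mem hf hf') a3)
    have c2 := (s.comm _ hd _ (m (f * f'))).eq
    have e3 : c.ι f * d * (c.ι f)⁻¹ * (c.ι (f * f') * d * (c.ι (f * f'))⁻¹) =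
        d * (c.ι f' * d * (c.ι f')⁻¹) := by
      rw [← mul_inv_eq_iff_eq_mul.2 n2.symm, map_mul]; group
    rw [← e3, c2, (s.comm _ (m f) _ (m (f * f'))).eq] at p
    generalize c.ι f * d * (c.ι f)⁻¹ = X, c.ι (f * f') * d * (c.ι (f * f'))⁻¹ = Y at p
    simpa [mul_assoc] using p
  rcases o.ef e he f hf (ι_comm (d2 ▸ h'.cD _ n4 f hf)) with a | a
  exacts [e1 a, a1 a]

theorem DS.s1 (h : DD c D Q) (s : DS c D Q R true) (o : Op D D') : S1 c D R where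
  sq a ha := by
    obtain ⟨e, he, k⟩ := h.φ a (s.le ha)
    by_cases e1 : e = 1
    · subst e1
      obtain ⟨b, hb, rfl⟩ := s.ker h ha (by simpa [mul_inv_eq_iff_eq_mul, Commute, SemiconjBy] using k)
      rw [← map_mul, o.sq b hb, map_one]
    · exact (s.mem a (s.le ha) e he e1 k).1 ha
  comm := s.comm
  DR := s.DR
  cO q hq := h.cO q (s.le hq)
  φ q hq := h.φ q (s.le hq)
  onto e he := by
    obtain ⟨q, hq, m⟩ := h.onto e he
    rcases s.idx q hq with a | a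
    · exact ⟨q, a, m⟩
    · exact ⟨q * c.t, a, by rw [← m]; group⟩
  ker q hq := s.ker h hq
  norm g h1 h2 q hq := s.norm h h1 h2 hq
  max g g2 a b := fun ⟨e, he, e1, k⟩ =>
    (s.mem g (h.max g 1 (by rw [pow_one, pow_two, g2]) a b ⟨e, he, k⟩) e he e1 k).2 g2

theorem S1.cf (h : S1 c D R) (h' : S1 c D' R') (o : Op D D')
    (hW : ∀ w ∈ W, ∃ q ∈ R ⊓ R', q * c.t * q⁻¹ = c.t * c.ι w) {f : T} (hf : f ∈ D') (f1 : f ∉ D)
    {x : G} (hx : x ∈ R) (k : Commute x (c.ι f)) : x ∈ R' := by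
  obtain ⟨e, he, l⟩ := h.φ x hx
  have e1 : e ∈ D' := by
    refine (o.ef e he f hf (ι_comm (c := c) ?_)).resolve_right f1
    have : Commute (c.t * c.ι e) (c.ι f) := l ▸ (k.mul_left (c.ιt f).symm).mul_left k.inv_left
    simpa using (c.ιt f).symm.inv_left.mul_left this
  obtain ⟨q, hq, m⟩ := hW e ((o.w e).2 ⟨he, e1⟩)
  obtain ⟨a, ha, n⟩ := h.ker _ (mul_mem (inv_mem hq.1) hx) (comm_of_φ (m.trans l.symm))
  have a1 : a ∈ D' := (o.ef a ha f hf (ι_comm (c := c)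
    (n ▸ (h'.comm q hq.2 _ (h'.DR f hf)).inv_left.mul_left k))).resolve_right f1
  rw [inv_mul_eq_iff_eq_mul.1 n]
  exact mul_mem hq.2 (h'.DR a a1)

theorem S1.cmm (h : S1 c D R) (h' : S1 c D' R') (o : Op D D')
    (hW : ∀ w ∈ W, ∃ q ∈ R ⊓ R', q * c.t * q⁻¹ = c.t * c.ι w) {f : T} (hf : f ∈ D')
    {a : G} (ha : a ∈ R) : ∃ v ∈ R ⊓ R', a * c.ι f * a⁻¹ = v * c.ι f := by
  by_cases f1 : f ∈ D
  · exact ⟨1, one_mem _, by rw [(h.comm a ha _ (h.DR f f1)).eq, mul_inv_cancel_right, one_mul]⟩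
  have m := h.norm _ ⟨1, one_mem _, φ_one (c.ιt f)⟩ (nm_ι o.nm f) a ha
  refine ⟨_, mem_inf.2 ⟨mul_mem ha m, h.cf h' o hW hf f1 (mul_mem ha m) (comm_norm
    (by rw [← map_mul, o.sq' f hf, map_one]) (h.comm _ ha _ m))⟩, ?_⟩
  rw [inv_eq_of_mul_eq_one_right (h.sq a ha)]
  group

theorem S1.conj (h : S1 c D R) (h' : S1 c D' R') (o : Op D D') (hd : Dd c D)
    (hW : ∀ w ∈ W, ∃ q ∈ R ⊓ R', q * c.t * q⁻¹ = c.t * c.ι w) {a b : G} (ha : a ∈ R) (hb : b ∈ R') :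
    b * a * b⁻¹ ∈ R := by
  have hW' : ∀ w ∈ W, ∃ q ∈ R' ⊓ R, q * c.t * q⁻¹ = c.t * c.ι w := inf_comm R R' ▸ hW
  have tr : ∀ {x : G}, Commute a (b⁻¹ * x * b⁻¹⁻¹) → Commute (b * a * b⁻¹) x := fun k => by
    simpa [mul_assoc] using k.map (MulAut.conj b)
  have y2 : b * a * b⁻¹ * (b * a * b⁻¹) = 1 := by rw [conj_mul, h.sq a ha, mul_one, mul_inv_cancel]
  have yD : ∀ e ∈ D, Commute (b * a * b⁻¹) (c.ι e) := fun e he => tr (by
    obtain ⟨v, hv, k⟩ := h'.cmm h o.symm hW' he (inv_mem hb)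
    exact k ▸ h.comm a ha _ (mul_mem hv.2 (h.DR e he)))
  have yO : ∀ p ∈ c.O, Commute (b * a * b⁻¹) p := fun p hp =>
    ((h'.cO b hb p hp).mul_left (h.cO a ha p hp)).mul_left (h'.cO b hb p hp).inv_left
  obtain ⟨v, hv, k⟩ : ∃ v ∈ R, b * a * b⁻¹ * c.t * (b * a * b⁻¹)⁻¹ = c.t * v := by
    obtain ⟨f, hf, k1⟩ := h'.φ b hb
    obtain ⟨e, he, k2⟩ := h.φ a ha
    obtain ⟨v1, hv1, k3⟩ := h.cmm h' o hW hf ha
    obtain ⟨v2, hv2, k4⟩ := h'.cmm h o.symm hW' he hb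
    have bi := inv_eq_of_mul_eq_one_right (h'.sq b hb)
    have c1 := (h'.comm b hb _ (mul_mem hv1.2 (h'.DR f hf))).eq
    have c2 := (h'.comm _ (h'.DR f hf) _ hv1.2).eq
    have c3 := (h'.comm _ (h'.DR f hf) _ hv2.1).eq
    refine ⟨v2 * c.ι (f * e * f⁻¹) * v1, mul_mem (mul_mem hv2.2 (h.DR _ (o.nm f e he))) hv1.1, ?_⟩
    calc _ = b * (a * (b⁻¹ * c.t * b⁻¹⁻¹) * a⁻¹) * b⁻¹ := by group
      _ = b * (a * c.t * a⁻¹ * (a * c.ι f * a⁻¹)) * b⁻¹ := by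
        rw [show b⁻¹ * c.t * b⁻¹⁻¹ = c.t * c.ι f by rw [bi, k1]]; group
      _ = b * c.t * b⁻¹ * (b * c.ι e * b⁻¹) * (b * (v1 * c.ι f) * b⁻¹) := by rw [k2, k3]; group
      _ = c.t * (c.ι f * v2) * c.ι e * (v1 * c.ι f) := by
        rw [k1, k4, c1, mul_inv_cancel_right]; group
      _ = _ := by
        rw [c3, ← c2, map_mul, map_mul, map_inv, inv_eq_of_mul_eq_one_right
          (show c.ι f * c.ι f = 1 by rw [← map_mul, o.sq' f hf, map_one])]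
        group
  have vt : Commute v c.t := by
    have : c.t * v * (c.t * v) = 1 := by rw [← k, conj_mul, c.tt, mul_one, mul_inv_cancel]
    rw [Commute, SemiconjBy, ← inv_eq_of_mul_eq_one_right this, mul_inv_rev,
      inv_eq_of_mul_eq_one_right (h.sq v hv), inv_eq_of_mul_eq_one_right c.tt]
  obtain ⟨e, he, rfl⟩ := h.ker v hv vt
  by_cases e1 : e = 1
  swap
  · exact h.max _ y2 yD yO ⟨e, he, e1, k⟩
  subst e1
  have yt : Commute (b * a * b⁻¹) c.t := by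
    rw [map_one, mul_one] at k
    exact mul_inv_eq_iff_eq_mul.1 k
  obtain ⟨e, he, p, hp, l⟩ := hd.cD _ yt yD
  have po : Odd (orderOf p) := c.Oodd.of_dvd_nat (orderOf_dvd_natCard c.O hp)
  have ep := c.LO _ (c.ι_mem e) p hp
  have e2 : c.ι e * c.ι e = 1 := by rw [← map_mul, o.sq e he, map_one]
  rcases l with l | l
  · rw [two_unique po ep.symm (i := 1) (j := 1) (by rw [pow_one, pow_two, y2]) (by rw [pow_one, pow_two, e2]) l]
    exact h.DR e he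
  · have l' := two_unique po ((c.Ot p hp).mul_right ep.symm) (i := 1) (j := 1)
      (by rw [pow_one, pow_two, y2])
      (by rw [pow_one, pow_two, (c.ιt e).mul_mul_mul_comm, c.tt, e2, one_mul]) l
    obtain ⟨q, hq, m⟩ := hW z (by decide +kernel)
    have q1 : Commute q (c.t * c.ι e) := l' ▸ ((h'.comm q hq.2 b hb).mul_right
      (h.comm q hq.1 a ha)).mul_right (h'.comm q hq.2 b hb).inv_right
    have q2 : Commute q c.t := by
      simpa using q1.mul_right (h.comm q hq.1 _ (h.DR e he)).inv_right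
    rw [q2.eq, mul_inv_cancel_right, left_eq_mul, ← map_one c.ι] at m
    exact absurd (c.inj m) (by decide +kernel)

theorem Cf.exists_sx (c : Cf G) : ∃ Es Fs, Sx c Es Fs := by
  obtain ⟨Q, h⟩ := c.ddE.exists_dd
  obtain ⟨Q', h'⟩ := c.ddF.exists_dd
  have hq := h.q_of c.ddE (qE h)
  obtain ⟨R, u, s⟩ := h.exists_ds (.inl rfl) hq
  obtain ⟨R', u', s'⟩ := h'.exists_ds (.inr rfl) (h'.q_of c.ddF (qF h h'))
  obtain rfl := s.elem h h' opEF fun w hw => ontoQ h h' hw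
  obtain rfl := s'.elem h' h opEF.symm fun w hw => inf_comm Q Q' ▸ ontoQ h h' hw
  have a := s.s1 h opEF
  have b := s'.s1 h' opEF.symm
  have hW : ∀ w ∈ W, ∃ q ∈ R ⊓ R', q * c.t * q⁻¹ = c.t * c.ι w := fun w hw => by
    by_cases w1 : w = 1
    · exact ⟨1, one_mem _, by simp [w1]⟩
    obtain ⟨wE, wF⟩ := (mem_W w).1 hw
    obtain ⟨q, hq', m⟩ := ontoQ h h' hw
    rcases hq q hq'.1 w wE w1 m with k | k
    · exact ⟨q, ⟨(s.mem q hq'.1 w wE w1 m).2 k, (s'.mem q hq'.2 w wF w1 m).2 k⟩, m⟩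
    · have m' : q * c.t * c.t * (q * c.t)⁻¹ = c.t * c.ι w := by rw [← m]; group
      have k' : q * c.t * (q * c.t) = 1 := by
        rw [h.sq_t hq'.1 wE m, k, ← map_mul, opEF.sq w wE, map_one]
      exact ⟨q * c.t, ⟨(s.mem _ (mul_mem hq'.1 h.tQ) w wE w1 m').2 k',
        (s'.mem _ (mul_mem hq'.2 h'.tQ) w wF w1 m').2 k'⟩, m'⟩
  refine ⟨R, R', a, b, hW, fun x hx y hy => mem_inf.2 ⟨?_, mul_mem
    (b.conj a opEF.symm c.ddF (inf_comm R R' ▸ hW) hy hx) (inv_mem hy)⟩⟩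
  simpa only [mul_assoc] using mul_mem hx (a.conj b opEF c.ddE hW (inv_mem hx) hy)

end Cfsg.Agent.WR
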